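import Cfsg.Agent.Lib.MaxClassLayers.Commutativity

/-!
How an automorphism of a group of maximal class scales the layers, and two impossible patterns of
signs on the three bottom layers.
-/

set_option autoImplicit false
set_option linter.unusedSectionVars false
set_option linter.style.haveILetI false

open scoped commutatorElement

namespace CfsgLib.MaxClassLayers

open CfsgLib.UniserialPower (Γ gamma_commutator)

universe u

variable {p : ℕ} [hp : Fact p.Prime] {X : Type u} [Group X] [Finite X] {n : ℕ}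

/-- `σ` raises the layer `k` to the power `ε`. -/
def Acts (σ : MulAut X) (k : ℕ) (ε : ℤ) : Prop :=
  ∀ d ∈ Γ X k, (d ^ ε)⁻¹ * σ d ∈ Γ X (k + 1)

theorem gamma_apply (σ : MulAut X) {k : ℕ} {g : X} (hg : g ∈ Γ X k) : σ g ∈ Γ X k := by
  have h : (Γ X k).map σ.toMonoidHom = Γ X k := by
    show ((⊤ : Subgroup X).lowerCentralSeries k).map _ = (⊤ : Subgroup X).lowerCentralSeries k
    rw [Subgroup.map_lowerCentralSeries, Subgroup.map_top_of_surjective _ σ.surjective]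
  exact h.le ⟨g, hg, rfl⟩

theorem twoStep_apply (σ : MulAut X) {k : ℕ} {s : X} (hs : s ∈ twoStep X k) :
    σ s ∈ twoStep X k := by
  intro g hg
  rw [show g = σ (σ⁻¹ g) from (MulAut.apply_inv_self _ _ _).symm, ← map_commutatorElement]
  exact gamma_apply σ (hs _ (gamma_apply σ⁻¹ hg))

/-- An automorphism is a power map on a quotient of order `p`. -/
theorem exists_scalar (σ : MulAut X) (N : Subgroup X) [N.Normal] (hN : N.index = p)
    (hinv : ∀ s ∈ N, σ s ∈ N) : ∃ η : ℤ, ∀ s, (s ^ η)⁻¹ * σ s ∈ N := by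
  haveI : Fact (Nat.card (X ⧸ N)).Prime := ⟨by rw [← Subgroup.index_eq_card, hN]; exact hp.out⟩
  haveI : IsCyclic (X ⧸ N) := isCyclic_of_prime_card rfl
  obtain ⟨c, hc⟩ := IsCyclic.exists_generator (α := X ⧸ N)
  obtain ⟨g, rfl⟩ := QuotientGroup.mk'_surjective N c
  obtain ⟨η, hη⟩ := Subgroup.mem_zpowers_iff.1 (hc (QuotientGroup.mk' N (σ g)))
  refine ⟨η, fun s => QuotientGroup.eq.1 ?_⟩
  obtain ⟨i, hi⟩ := Subgroup.mem_zpowers_iff.1 (hc (QuotientGroup.mk' N s))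
  have h1 : (g ^ i)⁻¹ * s ∈ N := QuotientGroup.eq.1 ((map_zpow _ g i).trans hi)
  have h2 : QuotientGroup.mk' N (σ s) = QuotientGroup.mk' N (σ g) ^ i := by
    rw [← map_zpow, ← map_zpow]
    refine (QuotientGroup.eq.2 ?_).symm
    rw [← map_inv, ← map_mul]
    exact hinv _ h1
  show QuotientGroup.mk' N (s ^ η) = QuotientGroup.mk' N (σ s)
  rw [map_zpow, h2, ← hi, ← hη, ← zpow_mul, ← zpow_mul, mul_comm]

theorem scalar_unique {N : Subgroup X} [N.Normal] (hN : N.index = p) {s : X} (hs : s ∉ N) {a b : ℤ}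
    {v : X} (ha : (s ^ a)⁻¹ * v ∈ N) (hb : (s ^ b)⁻¹ * v ∈ N) : (a : ZMod p) = b := by
  rw [ZMod.intCast_eq_intCast_iff_dvd_sub]
  have h1 : QuotientGroup.mk' N s ^ a = QuotientGroup.mk' N s ^ b := by
    rw [← map_zpow, ← map_zpow]
    exact (QuotientGroup.eq.2 ha).trans (QuotientGroup.eq.2 hb).symm
  have h2 : orderOf (QuotientGroup.mk' N s) = p := by
    refine ((Nat.dvd_prime hp.out).1 ?_).resolve_left fun e => hs ?_
    · rw [← hN, Subgroup.index_eq_card]
      exact orderOf_dvd_natCard _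
    · exact (QuotientGroup.eq_one_iff s).1 (orderOf_eq_one_iff.1 e)
  rw [← h2, orderOf_dvd_iff_zpow_eq_one, zpow_sub, h1, mul_inv_cancel]

theorem twoStep_normal (h : MC X p n) {k : ℕ} (hk : 1 ≤ k) (hkn : k + 3 ≤ n) :
    (twoStep X k).Normal := by
  refine ⟨fun m hm g => ?_⟩
  rw [show g * m * g⁻¹ = ⁅g, m⁆ * m by rw [commutatorElement_def]; group]
  refine mul_mem (gamma_one_le_twoStep k ?_) hm
  exact gamma_comm (i := 0) (j := 0) (Subgroup.mem_top g) (Subgroup.mem_top m)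

theorem Acts.unique (h : MC X p n) {σ : MulAut X} {k : ℕ} (hk : 1 ≤ k) (hkn : k + 2 ≤ n)
    {a b : ℤ} (ha : Acts σ k a) (hb : Acts σ k b) : (a : ZMod p) = b := by
  obtain ⟨d, hd, hd'⟩ := exists_level h hk (by omega)
  rw [ZMod.intCast_eq_intCast_iff_dvd_sub]
  have h1 : QuotientGroup.mk' (Γ X (k + 1)) d ^ a = QuotientGroup.mk' (Γ X (k + 1)) d ^ b := by
    rw [← map_zpow, ← map_zpow]
    exact (QuotientGroup.eq.2 (ha d hd)).trans (QuotientGroup.eq.2 (hb d hd)).symm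
  have h2 : orderOf (QuotientGroup.mk' (Γ X (k + 1)) d) = p := by
    refine ((Nat.dvd_prime hp.out).1 ?_).resolve_left fun e => hd' ?_
    · have hmem : QuotientGroup.mk' (Γ X (k + 1)) d ∈ Γ (X ⧸ Γ X (k + 1)) k :=
        (mem_gamma_quotient (by omega)).2 hd
      have := Subgroup.orderOf_dvd_natCard _ hmem
      rwa [card_gamma (quotient h (by omega) (by omega)) hk (by omega),
        show k + 1 + 1 - 1 - k = 1 by omega, pow_one] at this
    · exact (QuotientGroup.eq_one_iff d).1 (orderOf_eq_one_iff.1 e)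
  rw [← h2, orderOf_dvd_iff_zpow_eq_one, zpow_sub, h1, mul_inv_cancel]

/-- The scalar of a layer is the product of the scalars of the two factors of a commutator. -/
theorem acts_succ (h : MC X p n) (σ : MulAut X) {k : ℕ} {d s : X} {ε η : ℤ} (hd : d ∈ Γ X k)
    (hu : ⁅d, s⁆ ∉ Γ X (k + 2)) (ha : ⁅(d ^ ε)⁻¹ * σ d, σ s⁆ ∈ Γ X (k + 2))
    (ht : ⁅d ^ ε, (s ^ η)⁻¹ * σ s⁆ ∈ Γ X (k + 2)) : Acts σ (k + 1) (ε * η) := by
  obtain ⟨π, hπ⟩ : ∃ π, π = QuotientGroup.mk' (Γ X (k + 2)) := ⟨_, rfl⟩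
  have hone : ∀ v ∈ Γ X (k + 2), π v = 1 := fun v hv => hπ ▸ (QuotientGroup.eq_one_iff v).2 hv
  let fl : Γ X k →* X ⧸ Γ X (k + 2) := MonoidHom.mk' (fun v => π ⁅(v : X), s ^ η⁆)
    fun v w => hπ ▸ comm_mul_left w.2 (s ^ η)
  let fr : X →* X ⧸ Γ X (k + 2) := MonoidHom.mk' (fun v => π ⁅d, v⁆)
    fun v w => hπ ▸ comm_mul_right hd v w
  have h1 : π (σ ⁅d, s⁆) = π ⁅d, s⁆ ^ (ε * η) := by
    have e1 : π ⁅σ d, σ s⁆ = π ⁅d ^ ε, σ s⁆ := by
      conv_lhs => rw [← mul_inv_cancel_left (d ^ ε) (σ d)]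
      rw [hπ, comm_mul_left (mul_mem (inv_mem (zpow_mem hd ε)) (gamma_apply σ hd)), ← hπ, hone _ ha,
        mul_one]
    have e2 : π ⁅d ^ ε, σ s⁆ = π ⁅d ^ ε, s ^ η⁆ := by
      conv_lhs => rw [← mul_inv_cancel_left (s ^ η) (σ s)]
      rw [hπ, comm_mul_right (zpow_mem hd ε), ← hπ, hone _ ht, mul_one]
    have e3 : π ⁅d ^ ε, s ^ η⁆ = fl ⟨d, hd⟩ ^ ε := by
      rw [← map_zpow]; rfl
    have e4 : fl ⟨d, hd⟩ = π ⁅d, s⁆ ^ η := by
      show fr (s ^ η) = fr s ^ η
      exact map_zpow fr s η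
    rw [map_commutatorElement, e1, e2, e3, e4, ← zpow_mul, mul_comm η ε]
  intro g hg
  have hu1 : ⁅d, s⁆ ∈ Γ X (k + 1) := gamma_commutator hd
  obtain ⟨w, hw, v, hv, rfl⟩ :=
    Subgroup.mem_sup_of_normal_right.1 (layer_gen h (by omega) hu1 hu hg)
  obtain ⟨i, rfl⟩ := Subgroup.mem_zpowers_iff.1 hw
  refine QuotientGroup.eq.1 ?_
  show QuotientGroup.mk' (Γ X (k + 2)) ((⁅d, s⁆ ^ i * v) ^ (ε * η)) =
    QuotientGroup.mk' (Γ X (k + 2)) (σ (⁅d, s⁆ ^ i * v))
  rw [← hπ, map_zpow π, map_mul π, hone v hv, mul_one, map_mul σ, map_mul π, hone _ (gamma_apply σ hv),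
    mul_one, map_zpow σ, map_zpow π, map_zpow π, h1, ← zpow_mul, ← zpow_mul, mul_comm]

theorem acts_step (h : MC X p n) {σ : MulAut X} {k : ℕ} (hk : 1 ≤ k) (hkn : k + 3 ≤ n) {ε η : ℤ}
    (hε : Acts σ k ε) (hη : ∀ s, (s ^ η)⁻¹ * σ s ∈ twoStep X k) : Acts σ (k + 1) (ε * η) := by
  obtain ⟨d, hd, hd'⟩ := exists_level h hk (by omega)
  obtain ⟨s, hs⟩ : ∃ s, s ∉ twoStep X k := by
    by_contra hcon
    push Not at hcon
    exact twoStep_ne_top h hkn (eq_top_iff.2 fun s _ => hcon s)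
  exact acts_succ h σ hd (fun hu => hs (mem_twoStep_of_mem h hk hd hd' hu))
    (gamma_commutator (hε d hd)) (hη s _ (zpow_mem hd ε))

/-- The scalars of all the layers but the last, in an exceptional group. -/
theorem acts_of_exceptional (hp2 : p ≠ 2) (h : MC X p n) (hn : 5 ≤ n)
    (hexc : twoStep X (n - 3) ≠ twoStep X 1) (σ : MulAut X) {q r : ℤ}
    (hq : ∀ s, (s ^ q)⁻¹ * σ s ∈ twoStep X 1) (hr : ∀ s, (s ^ r)⁻¹ * σ s ∈ twoStep X (n - 3)) :
    ∀ k, 1 ≤ k → k + 3 ≤ n → ∃ ε : ℤ, Acts σ k ε ∧ (ε : ZMod p) = (r : ZMod p) * (q : ZMod p) ^ k := by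
  obtain ⟨e, y, he, he', hy, hgen⟩ := exists_pair h (by omega : 4 ≤ n)
  have hB := (twoStep_eq hp2 n X h hn).1
  have heC : e ∉ twoStep X (n - 3) := fun hmem => hexc (eq_twoStep_one h (by omega) (by omega)
    (hgen.trans (sup_le (Subgroup.zpowers_le.2 hmem) (gamma_one_le_twoStep _))))
  obtain ⟨ρ, hρ, hρr⟩ : ∃ ρ : ℤ, (e ^ ρ)⁻¹ * σ e ∈ Γ X 1 ∧ (ρ : ZMod p) = r := by
    obtain ⟨w, hw, v, hv, hwv⟩ :=
      Subgroup.mem_sup_of_normal_right.1 (hgen (twoStep_apply σ he))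
    obtain ⟨ρ, rfl⟩ := Subgroup.mem_zpowers_iff.1 hw
    have hmem : (e ^ ρ)⁻¹ * σ e ∈ Γ X 1 := by rw [← hwv, inv_mul_cancel_left]; exact hv
    haveI := twoStep_normal h (show 1 ≤ n - 3 by omega) (by omega)
    exact ⟨ρ, hmem, scalar_unique (twoStep_index h (by omega) (by omega)) heC
      (gamma_one_le_twoStep _ hmem) (hr e)⟩
  have hu : ⁅e, y⁆ ∉ Γ X 2 := fun hu => hy (by rw [← commutatorElement_inv]; exact inv_mem hu)
  have h1 : Acts σ 1 (ρ * q) := by
    refine acts_succ h σ (k := 0) (Subgroup.mem_top e) hu ?_ ?_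
    · exact gamma_commutator hρ
    · exact gamma_anti (by omega) (comm_first h (by omega)
        (Subgroup.commutator_mem_commutator (zpow_mem he ρ) (hq y)))
  intro k hk
  induction k, hk using Nat.le_induction with
  | base => exact fun _ => ⟨ρ * q, h1, by rw [Int.cast_mul, hρr, pow_one]⟩
  | succ k hk ih =>
    intro hkn
    obtain ⟨ε, hε, hεv⟩ := ih (by omega)
    refine ⟨ε * q, acts_step h hk (by omega) hε (by rw [hB k hk (by omega)]; exact hq), ?_⟩
    rw [Int.cast_mul, hεv, pow_succ, mul_assoc]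

theorem one_ne_neg_one (hp2 : p ≠ 2) : (1 : ZMod p) ≠ -1 := fun e => by
  have h2 : ((2 : ℕ) : ZMod p) = 0 := by
    rw [Nat.cast_ofNat, ← one_add_one_eq_two]
    nth_rewrite 2 [e]
    exact add_neg_cancel 1
  rw [ZMod.natCast_eq_zero_iff] at h2
  exact hp2 ((Nat.prime_dvd_prime_iff_eq hp.out Nat.prime_two).1 h2)

/-- The scalars forced on the two maximal two-step centralizers. -/
theorem exists_scalars (hp2 : p ≠ 2) (h : MC X p n) (hn : 5 ≤ n) (σ : MulAut X) {a b c : ℤ}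
    (ha : Acts σ (n - 4) a) (hb : Acts σ (n - 3) b) (hc : Acts σ (n - 2) c) :
    ∃ q r : ℤ, (∀ s, (s ^ q)⁻¹ * σ s ∈ twoStep X 1) ∧
      (∀ s, (s ^ r)⁻¹ * σ s ∈ twoStep X (n - 3)) ∧
      (b : ZMod p) = (a : ZMod p) * q ∧ (c : ZMod p) = (b : ZMod p) * r := by
  haveI := twoStep_normal h (show 1 ≤ n - 4 by omega) (by omega)
  haveI := twoStep_normal h (show 1 ≤ n - 3 by omega) (by omega)
  obtain ⟨q, hq⟩ := exists_scalar σ (twoStep X (n - 4)) (twoStep_index h (by omega) (by omega))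
    fun s hs => twoStep_apply σ hs
  obtain ⟨r, hr⟩ := exists_scalar σ (twoStep X (n - 3)) (twoStep_index h (by omega) (by omega))
    fun s hs => twoStep_apply σ hs
  refine ⟨q, r, fun s => ?_, hr, ?_, ?_⟩
  · rw [← (twoStep_eq hp2 n X h hn).1 (n - 4) (by omega) (by omega)]
    exact hq s
  · have h1 := acts_step h (show 1 ≤ n - 4 by omega) (by omega) ha hq
    rw [show n - 4 + 1 = n - 3 by omega] at h1
    rw [← Int.cast_mul]
    exact Acts.unique h (by omega) (by omega) hb h1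
  · have h1 := acts_step h (show 1 ≤ n - 3 by omega) (by omega) hb hr
    rw [show n - 3 + 1 = n - 2 by omega] at h1
    rw [← Int.cast_mul]
    exact Acts.unique h (by omega) (by omega) hc h1

/-- No automorphism fixes the two layers above the centre and inverts the centre. -/
theorem false_of_signs (hp2 : p ≠ 2) (h : MC X p n) (hn : 5 ≤ n) (σ : MulAut X)
    (ha : Acts σ (n - 4) 1) (hb : Acts σ (n - 3) 1) (hc : Acts σ (n - 2) (-1)) : False := by
  obtain ⟨q, r, hq, hr, e1, e2⟩ := exists_scalars hp2 h hn σ ha hb hc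
  rw [Int.cast_one, one_mul] at e1
  rw [Int.cast_neg, Int.cast_one, one_mul] at e2
  by_cases hexc : twoStep X (n - 3) = twoStep X 1
  · haveI := twoStep_normal h (le_refl 1) (show 1 + 3 ≤ n by omega)
    obtain ⟨s, hs⟩ : ∃ s, s ∉ twoStep X 1 := by
      by_contra hcon
      push Not at hcon
      exact twoStep_ne_top h (show 1 + 3 ≤ n by omega) (eq_top_iff.2 fun s _ => hcon s)
    have := scalar_unique (twoStep_index h le_rfl (by omega)) hs (hq s) (hexc ▸ hr s)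
    exact one_ne_neg_one hp2 (e1.trans (this.trans e2.symm))
  · obtain ⟨ε, hε, hεv⟩ := acts_of_exceptional hp2 h hn hexc σ hq hr (n - 4) (by omega) (by omega)
    have := Acts.unique h (by omega) (by omega) ha hε
    rw [Int.cast_one, hεv, ← e1, ← e2, one_pow, mul_one] at this
    exact one_ne_neg_one hp2 this

/-- In an exceptional group no automorphism inverts the middle one of the three bottom layers and
fixes the other two. -/
theorem false_of_signs_exceptional (hp2 : p ≠ 2) (h : MC X p n) (hn : 5 ≤ n)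
    (hexc : twoStep X (n - 3) ≠ twoStep X 1) (σ : MulAut X)
    (ha : Acts σ (n - 4) 1) (hb : Acts σ (n - 3) (-1)) (hc : Acts σ (n - 2) 1) : False := by
  obtain ⟨q, r, hq, hr, e1, e2⟩ := exists_scalars hp2 h hn σ ha hb hc
  rw [Int.cast_neg, Int.cast_one, one_mul] at e1
  rw [Int.cast_one, Int.cast_neg, Int.cast_one, neg_one_mul] at e2
  have hr' : (r : ZMod p) = -1 := by rw [e2, neg_neg]
  obtain ⟨ε, hε, hεv⟩ := acts_of_exceptional hp2 h hn hexc σ hq hr (n - 4) (by omega) (by omega)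
  have := Acts.unique h (by omega) (by omega) ha hε
  rw [Int.cast_one, hεv, ← e1, hr', neg_one_mul] at this
  rcases Nat.even_or_odd (n - 4) with he | ho
  · rw [he.neg_one_pow] at this
    exact one_ne_neg_one hp2 this
  · refine hexc ((twoStep_eq hp2 n X h hn).2 ?_)
    obtain ⟨m, hm⟩ := ho
    exact ⟨m + 2, by omega⟩

end CfsgLib.MaxClassLayers
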