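import Cfsg.Agent.Lib.PGroup.UniserialPower
import Cfsg.Agent.Lib.PGroup.MaximalClassSection

/-!
The layers of a `p`-group of maximal class, their two-step centralizers, and the centralizer of an
element outside all of them.
-/

set_option autoImplicit false
set_option linter.unusedSectionVars false

open scoped commutatorElement

namespace CfsgLib.MaxClassLayers

open CfsgLib.UniserialPower (Γ gamma_commutator)

variable {p : ℕ} [hp : Fact p.Prime]

/-- A group of order `p ^ n` and class `n - 1`. -/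
structure MC (X : Type*) [Group X] (p n : ℕ) : Prop where
  card : Nat.card X = p ^ n
  cls : Group.nilpotencyClass X = n - 1
  three_le : 3 ≤ n

variable {X : Type*} [Group X] [Finite X] {n : ℕ}

theorem gamma_anti {i j : ℕ} (h : i ≤ j) : Γ X j ≤ Γ X i :=
  (⊤ : Subgroup X).lowerCentralSeries_antitone h

theorem gamma_comm {i j : ℕ} {a b : X} (ha : a ∈ Γ X i) (hb : b ∈ Γ X j) :
    ⁅a, b⁆ ∈ Γ X (i + j + 1) :=
  Regular.lcs_commutator_le i j (Subgroup.commutator_mem_commutator ha hb)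

theorem isPGroup (h : MC X p n) : IsPGroup p X := IsPGroup.of_card h.card

theorem card_gamma (h : MC X p n) {j : ℕ} (hj : 1 ≤ j) (hjn : j + 1 ≤ n) :
    Nat.card (Γ X j) = p ^ (n - 1 - j) := by
  obtain ⟨i, rfl⟩ : ∃ i, j = i + 1 := ⟨j - 1, by omega⟩
  rw [MaxClass.card_lcs_eq h.card h.cls h.three_le i (by omega)]
  congr 1
  omega

theorem gamma_eq_bot (h : MC X p n) {j : ℕ} (hj : n - 1 ≤ j) : Γ X j = ⊥ := by
  have := h.three_le
  refine le_bot_iff.1 ((Subgroup.lowerCentralSeries_antitone _ hj).trans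
    (Subgroup.eq_bot_of_card_eq _ ?_).le)
  rw [card_gamma h (by omega) (by omega), Nat.sub_self, pow_zero]

theorem exists_level (h : MC X p n) {j : ℕ} (hj : 1 ≤ j) (hjn : j + 1 ≤ n - 1) :
    ∃ d, d ∈ Γ X j ∧ d ∉ Γ X (j + 1) := by
  by_contra hcon
  push Not at hcon
  have h1 := Subgroup.card_le_of_le (show Γ X j ≤ Γ X (j + 1) from hcon)
  rw [card_gamma h hj (by omega), card_gamma h (by omega) (by omega)] at h1
  have := (Nat.pow_le_pow_iff_right hp.out.one_lt).1 h1
  omega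

theorem layer_gen (h : MC X p n) {j : ℕ} (hj : 1 ≤ j) {d : X} (hd : d ∈ Γ X j)
    (hd' : d ∉ Γ X (j + 1)) : Γ X j ≤ Subgroup.zpowers d ⊔ Γ X (j + 1) := by
  have hn := h.three_le
  have hjn : j + 1 ≤ n - 1 := by
    by_contra hc
    rw [gamma_eq_bot h (show n - 1 ≤ j by omega), Subgroup.mem_bot] at hd
    exact hd' (hd ▸ one_mem _)
  have hle : Subgroup.zpowers d ⊔ Γ X (j + 1) ≤ Γ X j :=
    sup_le (Subgroup.zpowers_le.2 hd) (gamma_anti (Nat.le_succ j))
  refine (Subgroup.eq_of_le_of_card_ge hle ?_).ge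
  obtain ⟨a, ha⟩ := IsPGroup.iff_card.mp ((isPGroup h).to_subgroup (Subgroup.zpowers d ⊔ Γ X (j + 1)))
  rw [card_gamma h hj (by omega), ha]
  refine Nat.pow_le_pow_right hp.out.pos ?_
  by_contra hlt
  refine hd' ((Subgroup.eq_of_le_of_card_ge (le_sup_right : Γ X (j + 1) ≤ Subgroup.zpowers d ⊔ _) ?_).symm ▸
    Subgroup.mem_sup_left (Subgroup.mem_zpowers d))
  rw [card_gamma h (by omega) (by omega), ha]
  exact Nat.pow_le_pow_right hp.out.pos (by omega)

theorem quotient (h : MC X p n) {m : ℕ} (hm : 2 ≤ m) (hmn : m + 1 ≤ n) :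
    MC (X ⧸ Γ X m) p (m + 1) := by
  have hn := h.three_le
  have hmap : ∀ i, Γ (X ⧸ Γ X m) i = (Γ X i).map (QuotientGroup.mk' (Γ X m)) := fun i => by
    show (⊤ : Subgroup _).lowerCentralSeries i = ((⊤ : Subgroup X).lowerCentralSeries i).map _
    rw [Subgroup.map_lowerCentralSeries,
      Subgroup.map_top_of_surjective _ (QuotientGroup.mk'_surjective _)]
  have hcard : Nat.card (X ⧸ Γ X m) = p ^ (m + 1) := by
    have h1 := Subgroup.card_eq_card_quotient_mul_card_subgroup (Γ X m)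
    rw [h.card, card_gamma h (by omega) hmn, show n = (m + 1) + (n - 1 - m) by omega, pow_add,
      show m + 1 + (n - 1 - m) - 1 - m = n - 1 - m by omega] at h1
    exact (Nat.eq_of_mul_eq_mul_right (pow_pos hp.out.pos _) h1).symm
  refine ⟨hcard, ?_, by omega⟩
  haveI : Group.IsNilpotent (X ⧸ Γ X m) := (IsPGroup.of_card hcard).isNilpotent
  refine le_antisymm (Subgroup.lowerCentralSeries_eq_bot_iff_nilpotencyClass_le.1 ?_) ?_
  · show Γ (X ⧸ Γ X m) (m + 1 - 1) = ⊥
    rw [hmap, Nat.add_sub_cancel, Subgroup.map_eq_bot_iff, QuotientGroup.ker_mk']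
  · by_contra hc
    have h2 : Γ (X ⧸ Γ X m) (m - 1) = ⊥ :=
      Subgroup.lowerCentralSeries_eq_bot_iff_nilpotencyClass_le.2 (by omega)
    rw [hmap, Subgroup.map_eq_bot_iff, QuotientGroup.ker_mk'] at h2
    have h3 := Subgroup.card_le_of_le h2
    rw [card_gamma h (by omega) hmn, card_gamma h (by omega) (by omega)] at h3
    have := (Nat.pow_le_pow_iff_right hp.out.one_lt).1 h3
    omega

theorem map_gamma {m : ℕ} (i : ℕ) :
    Γ (X ⧸ Γ X m) i = (Γ X i).map (QuotientGroup.mk' (Γ X m)) := by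
  show (⊤ : Subgroup _).lowerCentralSeries i = ((⊤ : Subgroup X).lowerCentralSeries i).map _
  rw [Subgroup.map_lowerCentralSeries,
    Subgroup.map_top_of_surjective _ (QuotientGroup.mk'_surjective _)]

theorem mem_gamma_quotient {m i : ℕ} (hi : i ≤ m) {g : X} :
    QuotientGroup.mk' (Γ X m) g ∈ Γ (X ⧸ Γ X m) i ↔ g ∈ Γ X i := by
  rw [map_gamma, ← Subgroup.mem_comap, Subgroup.comap_map_eq, QuotientGroup.ker_mk',
    sup_eq_left.2 (gamma_anti hi)]

/-- Commutation is bilinear modulo two layers below. -/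
theorem comm_mul_left {k : ℕ} {a b : X} (hb : b ∈ Γ X k) (g : X) :
    QuotientGroup.mk' (Γ X (k + 2)) ⁅a * b, g⁆ =
      QuotientGroup.mk' (Γ X (k + 2)) ⁅a, g⁆ * QuotientGroup.mk' (Γ X (k + 2)) ⁅b, g⁆ := by
  rw [show ⁅a * b, g⁆ = ⁅a, ⁅b, g⁆⁆ * ⁅b, g⁆ * ⁅a, g⁆ by
    simp only [commutatorElement_def]; group, map_mul, map_mul]
  have h1 : QuotientGroup.mk' (Γ X (k + 2)) ⁅a, ⁅b, g⁆⁆ = 1 := by
    refine (QuotientGroup.eq_one_iff _).2 ?_
    rw [← commutatorElement_inv]
    exact inv_mem (gamma_commutator (gamma_commutator hb))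
  rw [h1, one_mul]
  refine (commutatorElement_eq_one_iff_mul_comm.1 ?_)
  rw [← map_commutatorElement]
  exact (QuotientGroup.eq_one_iff _).2 (gamma_commutator (gamma_commutator hb))

theorem comm_mul_right {k : ℕ} {a : X} (ha : a ∈ Γ X k) (g g' : X) :
    QuotientGroup.mk' (Γ X (k + 2)) ⁅a, g * g'⁆ =
      QuotientGroup.mk' (Γ X (k + 2)) ⁅a, g⁆ * QuotientGroup.mk' (Γ X (k + 2)) ⁅a, g'⁆ := by
  rw [show ⁅a, g * g'⁆ = ⁅a, g⁆ * ⁅g, ⁅a, g'⁆⁆ * ⁅a, g'⁆ by
    simp only [commutatorElement_def]; group, map_mul, map_mul]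
  have h1 : QuotientGroup.mk' (Γ X (k + 2)) ⁅g, ⁅a, g'⁆⁆ = 1 := by
    refine (QuotientGroup.eq_one_iff _).2 ?_
    rw [← commutatorElement_inv]
    exact inv_mem (gamma_commutator (gamma_commutator ha))
  rw [h1, mul_one]

/-- The two-step centralizer of the layer `k`. -/
def twoStep (X : Type*) [Group X] (k : ℕ) : Subgroup X where
  carrier := {s | ∀ g ∈ Γ X k, ⁅g, s⁆ ∈ Γ X (k + 2)}
  one_mem' := fun g _ => by simp
  mul_mem' := fun {a b} ha hb g hg => by
    rw [show ⁅g, a * b⁆ = ⁅g, a⁆ * (a * ⁅g, b⁆ * a⁻¹) by simp only [commutatorElement_def]; group]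
    exact mul_mem (ha g hg) ((inferInstance : (Γ X (k + 2)).Normal).conj_mem _ (hb g hg) a)
  inv_mem' := fun {a} ha g hg => by
    rw [show ⁅g, a⁻¹⁆ = a⁻¹ * ⁅g, a⁆⁻¹ * a by simp only [commutatorElement_def]; group]
    simpa using (inferInstance : (Γ X (k + 2)).Normal).conj_mem _ (inv_mem (ha g hg)) a⁻¹

theorem mem_twoStep {k : ℕ} {s : X} :
    s ∈ twoStep X k ↔ ∀ g ∈ Γ X k, ⁅g, s⁆ ∈ Γ X (k + 2) := Iff.rfl

theorem gamma_one_le_twoStep (k : ℕ) : Γ X 1 ≤ twoStep X k := fun s hs g hg =>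
  gamma_comm hg hs

theorem twoStep_ne_top (h : MC X p n) {k : ℕ} (hk : k + 3 ≤ n) : twoStep X k ≠ ⊤ := by
  intro htop
  have hle : Γ X (k + 1) ≤ Γ X (k + 2) := by
    show (⊤ : Subgroup X).lowerCentralSeries (k + 1) ≤ _
    rw [Subgroup.lowerCentralSeries_succ, Subgroup.commutator_le]
    exact fun g hg s _ => (htop.ge (Subgroup.mem_top s) : s ∈ twoStep X k) g hg
  obtain ⟨d, hd, hd'⟩ := exists_level h (show 1 ≤ k + 1 by omega) (by omega)
  exact hd' (hle hd)

/-- Whether `y` centralizes a layer can be read off one element. -/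
theorem mem_twoStep_of_mem (h : MC X p n) {k : ℕ} (hk : 1 ≤ k) {d : X} (hd : d ∈ Γ X k)
    (hd' : d ∉ Γ X (k + 1)) {y : X} (hy : ⁅d, y⁆ ∈ Γ X (k + 2)) : y ∈ twoStep X k := by
  intro g hg
  let π := QuotientGroup.mk' (Γ X (k + 2))
  let f : Γ X k →* X ⧸ Γ X (k + 2) := MonoidHom.mk' (fun u => π ⁅(u : X), y⁆)
    fun u v => comm_mul_left v.2 y
  let K : Subgroup X := f.ker.map (Γ X k).subtype
  have hK : Γ X k ≤ K := by
    refine (layer_gen h hk hd hd').trans (sup_le (Subgroup.zpowers_le.2 ⟨⟨d, hd⟩, ?_, rfl⟩) ?_)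
    · exact (QuotientGroup.eq_one_iff _).2 hy
    · intro u hu
      exact ⟨⟨u, gamma_anti (Nat.le_succ k) hu⟩, (QuotientGroup.eq_one_iff _).2 (gamma_commutator hu), rfl⟩
  obtain ⟨⟨u, hu⟩, hu1, rfl⟩ := hK hg
  exact (QuotientGroup.eq_one_iff _).1 hu1

theorem coatom_gamma_one_le (h : MC X p n) {M : Subgroup X} (hM : IsCoatom M) :
    Γ X 1 ≤ M ∧ M.Normal ∧ M.index = p := by
  haveI : Group.IsNilpotent X := (isPGroup h).isNilpotent
  haveI hn : M.Normal :=
    Subgroup.NormalizerCondition.normal_of_coatom M Group.normalizerCondition_of_isNilpotent hM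
  have hidx : M.index = p := by
    have hQ : IsPGroup p (X ⧸ M) := (isPGroup h).to_quotient M
    haveI : Nontrivial (X ⧸ M) := by rw [QuotientGroup.nontrivial_iff]; exact hM.1
    obtain ⟨k, hk0, hk⟩ := hQ.nontrivial_iff_card.mp inferInstance
    obtain ⟨z, hz⟩ := exists_prime_orderOf_dvd_card' (G := X ⧸ M) p (hk ▸ dvd_pow_self p hk0.ne')
    have hne : (Subgroup.zpowers z).comap (QuotientGroup.mk' M) ≠ M := by
      intro e
      obtain ⟨y, hy⟩ := QuotientGroup.mk'_surjective M z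
      have hy' : y ∈ M := by
        rw [← e, Subgroup.mem_comap, hy]
        exact Subgroup.mem_zpowers z
      refine hp.out.ne_one ?_
      rw [← hz, orderOf_eq_one_iff, ← hy]
      exact (QuotientGroup.eq_one_iff y).mpr hy'
    have htop := hM.2 _ (lt_of_le_of_ne (QuotientGroup.le_comap_mk' M _) (Ne.symm hne))
    rw [Subgroup.index_eq_card, ← hz, ← Nat.card_zpowers,
      show Subgroup.zpowers z = ⊤ by
        rw [← Subgroup.map_comap_eq_self_of_surjective (QuotientGroup.mk'_surjective M) (Subgroup.zpowers z),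
          htop, Subgroup.map_top_of_surjective _ (QuotientGroup.mk'_surjective M)],
      Subgroup.card_top]
  haveI := hn
  haveI : Fact (Nat.card (X ⧸ M)).Prime := ⟨by rw [← Subgroup.index_eq_card, hidx]; exact hp.out⟩
  refine ⟨?_, hn, hidx⟩
  haveI : IsCyclic (X ⧸ M) := isCyclic_of_prime_card rfl
  letI := IsCyclic.commGroup (α := X ⧸ M)
  show (⊤ : Subgroup X).lowerCentralSeries 1 ≤ _
  rw [Subgroup.top_lowerCentralSeries_one, commutator_def, Subgroup.commutator_le]
  intro a _ b _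
  rw [← QuotientGroup.eq_one_iff, ← QuotientGroup.mk'_apply, map_commutatorElement,
    commutatorElement_eq_one_iff_mul_comm]
  exact mul_comm _ _

theorem exists_comm_notMem (h : MC X p n) {y : X} (hy : y ∉ Γ X 1) : ∃ g : X, ⁅g, y⁆ ∉ Γ X 2 := by
  classical
  by_contra hne
  push Not at hne
  have hn := h.three_le
  let π := QuotientGroup.mk' (Γ X 2)
  let Z : Subgroup X := (Subgroup.center (X ⧸ Γ X 2)).comap π
  have hy' : y ∈ Z := Subgroup.mem_comap.2 (Subgroup.mem_center_iff.2 fun q => by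
    obtain ⟨g, rfl⟩ := QuotientGroup.mk'_surjective (Γ X 2) q
    rw [← commutatorElement_eq_one_iff_mul_comm (g₁ := π g) (g₂ := π y), ← map_commutatorElement]
    exact (QuotientGroup.eq_one_iff _).2 (hne g))
  have hle : Γ X 1 ≤ Z := fun u hu => Subgroup.mem_comap.2 (Subgroup.mem_center_iff.2 fun q => by
    obtain ⟨g, rfl⟩ := QuotientGroup.mk'_surjective (Γ X 2) q
    rw [eq_comm, ← commutatorElement_eq_one_iff_mul_comm, ← map_commutatorElement]
    exact (QuotientGroup.eq_one_iff _).2 (gamma_commutator hu))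
  haveI : Z.Normal := inferInstanceAs (((Subgroup.center (X ⧸ Γ X 2)).comap π).Normal)
  have hlt : Γ X 1 < Z := lt_of_le_of_ne hle fun e => hy (e ▸ hy')
  have hq : Nat.card (X ⧸ Z) ∣ p := by
    have h1 := Subgroup.card_eq_card_quotient_mul_card_subgroup Z
    obtain ⟨a, ha⟩ := IsPGroup.iff_card.mp ((isPGroup h).to_subgroup Z)
    have h2 : p ^ (n - 2) < p ^ a := by
      have := Subgroup.card_le_of_le hle
      rw [card_gamma h le_rfl (by omega), ha, show n - 1 - 1 = n - 2 by omega] at this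
      refine lt_of_le_of_ne this fun e => ?_
      exact hlt.ne (Subgroup.eq_of_le_of_card_ge hle (le_of_eq (by
        rw [card_gamma h le_rfl (by omega), ha, show n - 1 - 1 = n - 2 by omega, e])))
    have h3 : n - 2 < a := (Nat.pow_lt_pow_iff_right hp.out.one_lt).1 h2
    rw [h.card, ha] at h1
    have h4 : Nat.card (X ⧸ Z) * p ^ (n - 1) ∣ p * p ^ (n - 1) := by
      rw [← pow_succ', show n - 1 + 1 = n by omega, h1]
      exact Nat.mul_dvd_mul_left _ (pow_dvd_pow p (by omega))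
    exact Nat.dvd_of_mul_dvd_mul_right (pow_pos hp.out.pos _) h4
  have hcyc : IsCyclic (X ⧸ Z) := by
    rcases (Nat.dvd_prime hp.out).1 hq with e | e
    · haveI := (Nat.card_eq_one_iff_unique.1 e).1; infer_instance
    · exact isCyclic_of_prime_card e
  have habel : Γ X 1 ≤ Γ X 2 := by
    let f : X ⧸ Γ X 2 →* X ⧸ Z := QuotientGroup.map (Γ X 2) Z (MonoidHom.id X)
      (by simpa using (gamma_anti (Nat.le_succ 1)).trans hle)
    show (⊤ : Subgroup X).lowerCentralSeries 1 ≤ _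
    rw [Subgroup.top_lowerCentralSeries_one, commutator_def, Subgroup.commutator_le]
    intro a _ b _
    rw [← QuotientGroup.eq_one_iff, ← QuotientGroup.mk'_apply, map_commutatorElement,
      commutatorElement_eq_one_iff_mul_comm]
    haveI := hcyc
    refine commutative_of_cyclic_center_quotient f (fun q hq' => ?_) _ _
    obtain ⟨g, rfl⟩ := QuotientGroup.mk'_surjective (Γ X 2) q
    exact (QuotientGroup.eq_one_iff g).1 hq'
  obtain ⟨d, hd, hd'⟩ := exists_level h le_rfl (by omega : 1 + 1 ≤ n - 1)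
  exact hd' (habel hd)

/-- An element outside the first term and all two-step centralizers. -/
def Uniform (X : Type*) [Group X] (n : ℕ) (y : X) : Prop :=
  y ∉ Γ X 1 ∧ ∀ k, 1 ≤ k → k + 3 ≤ n → y ∉ twoStep X k

theorem cent_inf_gamma (h : MC X p n) {y : X} (hy : Uniform X n y) :
    Subgroup.centralizer ({y} : Set X) ⊓ Γ X 1 ≤ Γ X (n - 2) := by
  rintro g ⟨hgC, hg1⟩
  by_contra hg
  have hc : g * y = y * g := Subgroup.mem_centralizer_singleton_iff.1 hgC
  obtain ⟨k, hk1, hk, hk'⟩ : ∃ k, 1 ≤ k ∧ g ∈ Γ X k ∧ g ∉ Γ X (k + 1) := by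
    by_contra hne
    push Not at hne
    have : ∀ k, 1 ≤ k → g ∈ Γ X k := fun k hk => by
      induction k, hk using Nat.le_induction with
      | base => exact hg1
      | succ k hk ih => exact hne k hk ih
    exact hg (this _ (by have := h.three_le; omega))
  have hkn : k + 3 ≤ n := by
    by_contra hc'
    exact hg (gamma_anti (show n - 2 ≤ k by omega) hk)
  refine hy.2 k hk1 hkn (mem_twoStep_of_mem h hk1 hk hk' ?_)
  rw [commutatorElement_eq_one_iff_mul_comm.2 hc]
  exact one_mem _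

theorem uniform_facts (h : MC X p n) {y : X} (hy : Uniform X n y) :
    Nat.card (Subgroup.centralizer ({y} : Set X)) = p ^ 2 ∧ y ^ p ∈ Γ X (n - 2) := by
  classical
  have hn := h.three_le
  set C := Subgroup.centralizer ({y} : Set X) with hC
  haveI : Group.IsNilpotent X := (isPGroup h).isNilpotent
  have hyC : y ∈ C := Subgroup.mem_centralizer_singleton_iff.2 rfl
  have hCtop : C ⊔ Γ X 1 ≠ ⊤ := by
    intro e
    have hCt : C = ⊤ := by
      by_contra hne
      obtain ⟨M, hM, hle⟩ := (IsCoatomic.eq_top_or_exists_le_coatom C).resolve_left hne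
      exact hM.1 (top_le_iff.1 (e ▸ sup_le hle (coatom_gamma_one_le h hM).1))
    obtain ⟨g, hg⟩ := exists_comm_notMem h hy.1
    refine hg ?_
    rw [commutatorElement_eq_one_iff_mul_comm.2
      (Subgroup.mem_centralizer_singleton_iff.1 (show g ∈ C by rw [hCt]; exact Subgroup.mem_top g))]
    exact one_mem _
  have hlt : Γ X 1 < C ⊔ Γ X 1 :=
    lt_of_le_of_ne le_sup_right fun e => hy.1 (e ▸ Subgroup.mem_sup_left hyC)
  obtain ⟨a, ha⟩ := IsPGroup.iff_card.mp ((isPGroup h).to_subgroup (C ⊔ Γ X 1))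
  have ha' : a ≤ n - 1 := by
    by_contra hc
    refine hCtop (Subgroup.eq_top_of_le_card _ ?_)
    rw [ha, h.card]
    exact Nat.pow_le_pow_right hp.out.pos (by omega)
  have hidx : (Γ X 1).relIndex (C ⊔ Γ X 1) ≤ p := by
    have h1 := Subgroup.relIndex_mul_relIndex ⊥ (Γ X 1) (C ⊔ Γ X 1) bot_le le_sup_right
    rw [Subgroup.relIndex_bot_left, Subgroup.relIndex_bot_left, card_gamma h le_rfl (by omega), ha] at h1
    refine Nat.le_of_mul_le_mul_left ?_ (pow_pos hp.out.pos (n - 1 - 1))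
    rw [h1, ← pow_succ]
    exact Nat.pow_le_pow_right hp.out.pos (by omega)
  have hint : Nat.card (C ⊓ Γ X 1 : Subgroup X) ≤ p := by
    refine (Subgroup.card_le_of_le (cent_inf_gamma h hy)).trans (le_of_eq ?_)
    rw [card_gamma h (by omega) (by omega), show n - 1 - (n - 2) = 1 by omega, pow_one]
  have hcard : Nat.card C ≤ p ^ 2 := by
    have h1 := Subgroup.relIndex_mul_relIndex ⊥ (Γ X 1 ⊓ C) C bot_le inf_le_right
    rw [Subgroup.relIndex_bot_left, Subgroup.relIndex_bot_left, Subgroup.inf_relIndex_right,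
      inf_comm] at h1
    rw [← h1, pow_two]
    refine Nat.mul_le_mul hint ?_
    rwa [Subgroup.relIndex_sup_right] at hidx
  refine ⟨le_antisymm hcard ?_, ?_⟩
  · -- `y` and the last layer
    have hle : Subgroup.zpowers y ⊔ Γ X (n - 2) ≤ C := sup_le (Subgroup.zpowers_le.2 hyC) fun u hu =>
      Subgroup.mem_centralizer_singleton_iff.2 (commutatorElement_eq_one_iff_mul_comm.1
        (Subgroup.mem_bot.1 ((gamma_eq_bot h (show n - 1 ≤ n - 2 + 1 by omega)).le (gamma_commutator hu))))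
    have hlt' : Γ X (n - 2) < Subgroup.zpowers y ⊔ Γ X (n - 2) := lt_of_le_of_ne le_sup_right fun e =>
      hy.1 (gamma_anti (by omega : 1 ≤ n - 2) (e ▸ Subgroup.mem_sup_left (Subgroup.mem_zpowers y)))
    obtain ⟨b, hb⟩ := IsPGroup.iff_card.mp ((isPGroup h).to_subgroup C)
    have hlt'' := lt_of_lt_of_le hlt' hle
    have h5 : Nat.card (Γ X (n - 2)) < Nat.card C := by
      refine lt_of_le_of_ne (Subgroup.card_le_of_le hlt''.le) fun e => hlt''.ne ?_
      exact Subgroup.eq_of_le_of_card_ge hlt''.le e.ge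
    rw [card_gamma h (by omega) (by omega), hb, show n - 1 - (n - 2) = 1 by omega] at h5
    rw [hb]
    exact Nat.pow_le_pow_right hp.out.pos ((Nat.pow_lt_pow_iff_right hp.out.one_lt).1 h5)
  · refine cent_inf_gamma h hy ⟨pow_mem hyC p, ?_⟩
    have hy1 : y ^ p ∈ (Regular.gam 2 : Subgroup X) :=
      MaxClassSection.pow_mem_gam h.card h.cls hn 2 le_rfl hp.out.two_le (by omega) y
    exact hy1

end CfsgLib.MaxClassLayers
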