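import Cfsg.Agent.Lib.MaxClassLayers.Twist

/-!
Every maximal subgroup of a group of maximal class of odd prime power order misses a uniform
element; hence the power map moves every layer exactly `p - 1` steps down.
-/

set_option autoImplicit false
set_option linter.unusedSectionVars false

open scoped commutatorElement

namespace CfsgLib.MaxClassLayers

open CfsgLib.UniserialPower (Γ gamma_commutator)

universe u

variable {p : ℕ} [hp : Fact p.Prime]

/-- Every maximal subgroup misses a uniform element. -/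
def HasUniform (X : Type*) [Group X] (n : ℕ) : Prop :=
  ∀ M : Subgroup X, IsCoatom M → ∃ y, y ∉ M ∧ Uniform X n y

section Transfer

variable {X : Type u} [Group X] [Finite X] {n : ℕ}

theorem exists_setting_map (h : MC X p n) (hU : HasUniform X n) :
    ∃ (E : Type u) (_ : Group E) (_ : Finite E) (ι : X →* E) (X' : Subgroup E) (x : X'),
      Function.Injective ι ∧ UniserialPower.Setting X' p n x ∧
      ∀ k, 1 ≤ k → (Γ X' k).map X'.subtype = (Γ X k).map ι := by
  have hne : (⊥ : Subgroup X) ≠ ⊤ := by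
    intro e
    have h1 : Nat.card (⊥ : Subgroup X) = Nat.card (⊤ : Subgroup X) := by rw [e]
    rw [Subgroup.card_bot, Subgroup.card_top, h.card] at h1
    exact (Nat.one_lt_pow (by have := h.three_le; omega) hp.out.one_lt).ne h1
  obtain ⟨M, hM, -⟩ := (IsCoatomic.eq_top_or_exists_le_coatom (⊥ : Subgroup X)).resolve_left hne
  obtain ⟨y, hyM, hy⟩ := hU M hM
  obtain ⟨E, i1, i2, ι, X', x, hι, -, hS, hl⟩ := exists_twist h hM hy hyM
  exact ⟨E, i1, i2, ι, X', x, hι, hS, hl⟩

theorem power_mem (h : MC X p n) (hU : HasUniform X n) {j : ℕ} (hj : 1 ≤ j) {d : X}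
    (hd : d ∈ Γ X j) : d ^ p ∈ Γ X (j + (p - 1)) := by
  obtain ⟨E, _, _, ι, X', x, hι, hS, hl⟩ := exists_setting_map h hU
  obtain ⟨e, he, hed⟩ := (hl j hj).ge (Subgroup.mem_map_of_mem ι hd)
  have h1 : ι (d ^ p) ∈ (Γ X (j + (p - 1))).map ι := by
    rw [← hl _ (by omega), map_pow, ← hed]
    exact ⟨e ^ p, UniserialPower.pow_mem_gamma hS hj he, map_pow _ _ _⟩
  exact (Subgroup.mem_map_iff_mem hι).1 h1

theorem power_notMem (h : MC X p n) (hU : HasUniform X n) {j : ℕ} (hj : 1 ≤ j) {d : X}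
    (hd : d ∈ Γ X j) (hd' : d ∉ Γ X (j + 1)) (hjn : j + p ≤ n - 1) : d ^ p ∉ Γ X (j + p) := by
  obtain ⟨E, _, _, ι, X', x, hι, hS, hl⟩ := exists_setting_map h hU
  obtain ⟨e, he, hed⟩ := (hl j hj).ge (Subgroup.mem_map_of_mem ι hd)
  intro hcon
  obtain ⟨e', he', hed'⟩ := (hl (j + p) (by omega)).ge (Subgroup.mem_map_of_mem ι hcon)
  have heq : e' = e ^ p := X'.subtype_injective (by rw [hed', map_pow, map_pow, hed])
  refine UniserialPower.pow_notMem_gamma hS hj he (fun h1 => hd' ?_) hjn (heq ▸ he')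
  have h2 : ι d ∈ (Γ X (j + 1)).map ι := by
    rw [← hl _ (by omega), ← hed]
    exact Subgroup.mem_map_of_mem _ h1
  exact (Subgroup.mem_map_iff_mem hι).1 h2

end Transfer

/-- At most `p` proper subgroups do not cover a `p`-group. -/
theorem exists_notMem_all {X : Type*} [Group X] [Finite X] {n : ℕ} (hX : Nat.card X = p ^ n)
    (s : Finset (Subgroup X)) (hs : s.card ≤ p) (hne : ∀ K ∈ s, K ≠ ⊤) :
    ∃ g : X, ∀ K ∈ s, g ∉ K := by
  classical
  haveI := Fintype.ofFinite X
  by_contra hcov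
  push Not at hcov
  have hn : 1 ≤ n := by
    by_contra hn0
    obtain ⟨K, hK, -⟩ := hcov 1
    refine hne K hK (Subgroup.eq_top_of_le_card K ?_)
    rw [hX, show n = 0 by omega, pow_zero]
    exact Nat.card_pos
  have hbound : ∀ K ∈ s, ((Finset.univ.filter fun g : X => g ∈ K).erase 1).card ≤ p ^ (n - 1) - 1 := by
    intro K hK
    rw [Finset.card_erase_of_mem (by simp [one_mem]), ← Fintype.card_subtype]
    refine Nat.sub_le_sub_right ?_ 1
    obtain ⟨a, ha⟩ := IsPGroup.iff_card.mp ((IsPGroup.of_card hX).to_subgroup K)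
    rw [← Nat.card_eq_fintype_card, show Nat.card {g // g ∈ K} = p ^ a from ha]
    refine Nat.pow_le_pow_right hp.out.pos ?_
    by_contra hlt
    refine hne K hK (Subgroup.eq_top_of_le_card K ?_)
    rw [hX, ha]
    exact Nat.pow_le_pow_right hp.out.pos (by omega)
  have hsub : (Finset.univ : Finset X).erase 1 ⊆
      s.biUnion fun K => (Finset.univ.filter fun g : X => g ∈ K).erase 1 := by
    intro g hg
    obtain ⟨K, hK, hgK⟩ := hcov g
    exact Finset.mem_biUnion.2 ⟨K, hK, Finset.mem_erase.2 ⟨(Finset.mem_erase.1 hg).1,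
      Finset.mem_filter.2 ⟨Finset.mem_univ _, hgK⟩⟩⟩
  have h1 := (Finset.card_le_card hsub).trans
    (Finset.card_biUnion_le_card_mul s _ (p ^ (n - 1) - 1) hbound)
  rw [Finset.card_erase_of_mem (Finset.mem_univ _), Finset.card_univ, ← Nat.card_eq_fintype_card, hX] at h1
  have h2 : p ^ n - 1 ≤ p * (p ^ (n - 1) - 1) := h1.trans (Nat.mul_le_mul_right _ hs)
  rw [Nat.mul_sub, mul_one, ← pow_succ', show n - 1 + 1 = n by omega] at h2
  have := hp.out.two_le
  have : p ≤ p ^ n := Nat.le_self_pow (by omega) p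
  omega

theorem comm_one_one {X : Type*} [Group X] [Finite X] {n : ℕ} (h : MC X p n) (hn : 4 ≤ n)
    {a b : X} (ha : a ∈ Γ X 1) (hb : b ∈ Γ X 1) : ⁅a, b⁆ ∈ Γ X 4 := by
  obtain ⟨d, hd, hd'⟩ := exists_level h le_rfl (show 1 + 1 ≤ n - 1 by omega)
  let π := QuotientGroup.mk' (Γ X 4)
  have hdec : ∀ g ∈ Γ X 1, ∃ i : ℤ, ∃ v ∈ Γ X 2, π g = π d ^ i * π v := fun g hg => by
    obtain ⟨w, hw, v, hv, rfl⟩ := Subgroup.mem_sup_of_normal_right.1 (layer_gen h le_rfl hd hd' hg)
    obtain ⟨i, rfl⟩ := Subgroup.mem_zpowers_iff.1 hw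
    exact ⟨i, v, hv, by rw [map_mul, map_zpow]⟩
  have hc : ∀ u ∈ Γ X 1, ∀ v ∈ Γ X 2, Commute (π u) (π v) := fun u hu v hv =>
    commutatorElement_eq_one_iff_mul_comm.1 (by
      rw [← map_commutatorElement]
      exact (QuotientGroup.eq_one_iff _).2 (gamma_anti (by omega) (gamma_comm hu hv)))
  obtain ⟨i, v, hv, ea⟩ := hdec a ha
  obtain ⟨k, w, hw, eb⟩ := hdec b hb
  refine (QuotientGroup.eq_one_iff (⁅a, b⁆)).1 ?_
  show π ⁅a, b⁆ = 1
  rw [map_commutatorElement, commutatorElement_eq_one_iff_mul_comm]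
  have hdd : Commute (π d ^ i) (π d ^ k) := (Commute.refl (π d)).zpow_zpow i k
  have h1 : Commute (π d ^ i) (π b) := by
    rw [eb]; exact hdd.mul_right ((hc d hd w hw).zpow_left i)
  rw [ea]
  exact (h1.mul_left (hc b hb v hv).symm).eq

theorem twoStep_one_eq_two {X : Type*} [Group X] [Finite X] {n : ℕ} (h : MC X p n) (hn : 5 ≤ n) :
    twoStep X 1 = twoStep X 2 := by
  classical
  have hle : twoStep X 1 ≤ twoStep X 2 := by
    suffices ⁅Γ X 2, twoStep X 1⁆ ≤ Γ X 4 from fun s hs g hg =>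
      this (Subgroup.commutator_mem_commutator hg hs)
    rw [show Γ X 2 = ⁅Γ X 1, (⊤ : Subgroup X)⁆ from Subgroup.lowerCentralSeries_succ _ 1]
    refine Regular.commutator_commutator_le _ _ _ _ ?_ ?_
    · refine le_trans (Subgroup.commutator_mono (?_ : ⁅(⊤ : Subgroup X), twoStep X 1⁆ ≤ Γ X 1) le_rfl) ?_
      · show _ ≤ (⊤ : Subgroup X).lowerCentralSeries 1
        rw [Subgroup.top_lowerCentralSeries_one, commutator_def]
        exact Subgroup.commutator_mono le_rfl le_top
      exact Subgroup.commutator_le.2 fun a ha b hb => comm_one_one h (by omega) ha hb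
    · refine (Subgroup.commutator_mono (?_ : ⁅twoStep X 1, Γ X 1⁆ ≤ Γ X 3) le_top).trans
        ((⊤ : Subgroup X).lowerCentralSeries_succ 3).ge
      rw [Subgroup.commutator_le]
      intro a ha g hg
      rw [← commutatorElement_inv]
      exact inv_mem (ha g hg)
  -- the first one has index `p`
  obtain ⟨d, hd, hd'⟩ := exists_level h le_rfl (show 1 + 1 ≤ n - 1 by omega)
  let π := QuotientGroup.mk' (Γ X 3)
  let f : X →* X ⧸ Γ X 3 := MonoidHom.mk' (fun s => π ⁅d, s⁆) fun a b => comm_mul_right hd a b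
  have hker : f.ker ≤ twoStep X 1 := fun s hs =>
    mem_twoStep_of_mem h le_rfl hd hd' ((QuotientGroup.eq_one_iff _).1 hs)
  have hrange : f.range ≤ (Γ X 2).map π := by
    rintro _ ⟨s, rfl⟩
    exact ⟨⁅d, s⁆, gamma_commutator hd, rfl⟩
  have hcard : Nat.card f.range ≤ p := by
    refine (Subgroup.card_le_of_le hrange).trans (le_of_eq ?_)
    rw [← map_gamma, card_gamma (quotient h (show 2 ≤ 3 by omega) (by omega)) (by omega) (by omega)]
    norm_num
  have hidx : (twoStep X 1).index ≤ p := by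
    have h1 := Nat.le_of_dvd ?_ (Subgroup.index_dvd_of_le hker)
    · rw [Subgroup.index_ker] at h1
      exact h1.trans hcard
    · exact Nat.pos_of_ne_zero Subgroup.index_ne_zero_of_finite
  refine le_antisymm hle ?_
  by_contra hne
  refine twoStep_ne_top h (show 2 + 3 ≤ n by omega) (Subgroup.index_eq_one.1 ?_)
  have hlt : twoStep X 1 < twoStep X 2 := lt_of_le_not_ge hle hne
  have h2 := Subgroup.relIndex_mul_index hle
  have h3 : 1 < (twoStep X 1).relIndex (twoStep X 2) := by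
    have h4 : (twoStep X 1).relIndex (twoStep X 2) ≠ 1 := fun e => hne (Subgroup.relIndex_eq_one.1 e)
    have h5 : (twoStep X 1).relIndex (twoStep X 2) ≠ 0 := Subgroup.index_ne_zero_of_finite
    omega
  obtain ⟨a, ha, ha'⟩ := (Nat.dvd_prime_pow hp.out).1 (h.card ▸ Subgroup.index_dvd_card (twoStep X 1))
  obtain ⟨b, hb, hb'⟩ := (Nat.dvd_prime_pow hp.out).1 (h.card ▸ Subgroup.index_dvd_card (twoStep X 2))
  rw [ha'] at hidx h2
  rw [hb'] at h2 ⊢
  have ha1 : a ≤ 1 := (Nat.pow_le_pow_iff_right hp.out.one_lt).1 (by simpa using hidx)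
  have h6 : p ^ b < p ^ a := h2 ▸ lt_mul_of_one_lt_left (pow_pos hp.out.pos b) h3
  have := (Nat.pow_lt_pow_iff_right hp.out.one_lt).1 h6
  rw [show b = 0 by omega, pow_zero]

/-- `(a b) ^ p = a ^ p * b ^ p` when the pair generates a group of class below `p` with a commutator
of order dividing `p`. -/
theorem mul_pow_of_pair {G : Type*} [Group G] [Finite G] (hG : IsPGroup p G)
    (hcl : (⊤ : Subgroup G).lowerCentralSeries (p - 1) = ⊥) {a b : G} (hab : ⁅a, b⁆ ^ p = 1) :
    (a * b) ^ p = a ^ p * b ^ p := by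
  have h : Regular.LevelReg p 1 G := Regular.levelReg_of_regular (Cfsg.Agent.S4209.result hG hcl) 1
  obtain ⟨c, hc, e⟩ := h a b
  rw [Regular.derived_powers_eq_bot hG h (by rwa [pow_one]), Subgroup.mem_bot] at hc
  simpa [hc] using e

theorem hasUniform (hp2 : p ≠ 2) : ∀ (n : ℕ) (X : Type u) [Group X] [Finite X], MC X p n →
    HasUniform X n := by
  intro n
  induction n using Nat.strong_induction_on with
  | _ n ih => ?_
  intro X _ _ h M hM
  classical
  have hn := h.three_le
  have hp3 : 3 ≤ p := by have := hp.out.two_le; omega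
  let S : Finset (Subgroup X) := insert M
    (((Finset.Icc 3 (p - 1)).image fun k => if k + 3 ≤ n then twoStep X k else M) ∪
      {if 4 ≤ n then twoStep X 1 else M, if 4 ≤ n then twoStep X (n - 3) else M})
  have hScard : S.card ≤ p := by
    refine (Finset.card_insert_le _ _).trans ?_
    have h1 := Finset.card_union_le ((Finset.Icc 3 (p - 1)).image fun k => if k + 3 ≤ n then twoStep X k else M)
      {if 4 ≤ n then twoStep X 1 else M, if 4 ≤ n then twoStep X (n - 3) else M}
    have h2 := (Finset.card_image_le (s := Finset.Icc 3 (p - 1))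
      (f := fun k => if k + 3 ≤ n then twoStep X k else M)).trans (by rw [Nat.card_Icc])
    have h3 : ({if 4 ≤ n then twoStep X 1 else M,
      if 4 ≤ n then twoStep X (n - 3) else M} : Finset (Subgroup X)).card ≤ 2 := Finset.card_le_two
    omega
  obtain ⟨y, hy⟩ := exists_notMem_all h.card S hScard (by
    intro K hK
    simp only [S, Finset.mem_insert, Finset.mem_union, Finset.mem_image, Finset.mem_singleton] at hK
    rcases hK with rfl | ⟨k, -, rfl⟩ | rfl | rfl
    · exact hM.1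
    all_goals split_ifs with hc
    all_goals first
      | exact hM.1
      | exact twoStep_ne_top h (by omega))
  have hyM : y ∉ M := hy M (Finset.mem_insert_self _ _)
  have hy1 : 4 ≤ n → y ∉ twoStep X 1 := fun h4 => by
    simpa [h4] using hy (if 4 ≤ n then twoStep X 1 else M) (by simp [S])
  have hylast : 4 ≤ n → y ∉ twoStep X (n - 3) := fun h4 => by
    simpa [h4] using hy (if 4 ≤ n then twoStep X (n - 3) else M) (by simp [S])
  refine ⟨y, hyM, fun hc => hyM ((coatom_gamma_one_le h hM).1 hc), fun k => ?_⟩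
  induction k using Nat.strong_induction_on with
  | _ k ihk => ?_
  intro hk1 hkn
  by_cases hklast : k = n - 3
  · subst hklast
    exact hylast (by omega)
  by_cases hk2 : k ≤ 2
  · interval_cases k
    · exact hy1 (by omega)
    · rw [← twoStep_one_eq_two h (by omega)]
      exact hy1 (by omega)
  by_cases hkp : k ≤ p - 1
  · simpa [hkn] using hy (if k + 3 ≤ n then twoStep X k else M) (Finset.mem_insert_of_mem
      (Finset.mem_union_left _ (Finset.mem_image.2 ⟨k, Finset.mem_Icc.2 ⟨by omega, hkp⟩, rfl⟩)))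
  -- the layer is the power of an earlier one
  intro hyk
  obtain ⟨j, rfl⟩ : ∃ j, k = j + (p - 1) := ⟨k - (p - 1), by omega⟩
  have hyj := ihk j (by omega) (by omega) (by omega)
  obtain ⟨d, hd, hd'⟩ := exists_level h (show 1 ≤ j by omega) (by omega)
  have hQ := quotient h (show 2 ≤ j + (p - 1) + 2 by omega) (by omega)
  have hUQ := ih (j + (p - 1) + 2 + 1) (by omega) _ hQ
  let π := QuotientGroup.mk' (Γ X (j + (p - 1) + 2))
  have hcd : ⁅y, d⁆ ∈ Γ X (j + 1) := by
    rw [← commutatorElement_inv]; exact inv_mem (gamma_commutator hd)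
  have hcd' : ⁅y, d⁆ ∉ Γ X (j + 2) := fun e => hyj (mem_twoStep_of_mem h (by omega) hd hd' (by
    rw [← commutatorElement_inv]; exact inv_mem e))
  have hπ : ∀ {i : ℕ} {g : X}, g ∈ Γ X i → π g ∈ Γ (X ⧸ Γ X (j + (p - 1) + 2)) i := fun {i g} hg => by
    rw [map_gamma]; exact Subgroup.mem_map_of_mem _ hg
  have hQbot : ∀ {i : ℕ}, j + (p - 1) + 2 ≤ i → Γ (X ⧸ Γ X (j + (p - 1) + 2)) i = ⊥ := fun {i} hi =>
    gamma_eq_bot hQ (by omega)
  have hdp : π d ^ p ∈ Γ (X ⧸ Γ X (j + (p - 1) + 2)) (j + (p - 1)) :=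
    MaxClassLayers.power_mem hQ hUQ (by omega) (hπ hd)
  have hdp' : d ^ p ∈ Γ X (j + (p - 1)) :=
    (mem_gamma_quotient (m := j + (p - 1) + 2) (by omega)).1 (by rwa [map_pow])
  have hfix : π (y * d ^ p * y⁻¹) = π (d ^ p) := by
    rw [show y * d ^ p * y⁻¹ = ⁅d ^ p, y⁆⁻¹ * d ^ p by simp only [commutatorElement_def]; group,
      map_mul, map_inv, show π ⁅d ^ p, y⁆ = 1 from (QuotientGroup.eq_one_iff _).2 (hyk _ hdp'),
      inv_one, one_mul]
  rw [← conj_pow, show y * d * y⁻¹ = ⁅y, d⁆ * d by simp only [commutatorElement_def]; group,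
    map_pow, map_pow, map_mul] at hfix
  -- the pair
  let H := Subgroup.closure ({π ⁅y, d⁆, π d} : Set (X ⧸ Γ X (j + (p - 1) + 2)))
  have hH : H ≤ Γ (X ⧸ Γ X (j + (p - 1) + 2)) j := by
    rw [Subgroup.closure_le]
    rintro _ (rfl | rfl)
    · exact gamma_anti (Nat.le_succ j) (hπ hcd)
    · exact hπ hd
  have hHH : ⁅H, H⁆ ≤ Γ (X ⧸ Γ X (j + (p - 1) + 2)) (2 * j + 2) := by
    refine Regular.commutator_pair_le ?_ fun g _ u hu =>
      (inferInstance : (Γ (X ⧸ Γ X (j + (p - 1) + 2)) (2 * j + 2)).Normal).conj_mem u hu g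
    exact gamma_anti (by omega) (gamma_comm (hπ hcd) (hπ hd))
  have hchain : H.lowerCentralSeries (p - 1) ≤
      Γ (X ⧸ Γ X (j + (p - 1) + 2)) (p * (j + 1)) := by
    have := UniserialPower.lcs_le_of_chain H
      (fun i => Γ (X ⧸ Γ X (j + (p - 1) + 2)) ((i + 1) * (j + 1)))
      (hHH.trans (gamma_anti (by ring_nf; omega))) (fun i _ => ?_) (p - 1) (by omega)
    · rwa [Nat.sub_add_cancel (by omega : 1 ≤ p)] at this
    · refine (Subgroup.commutator_mono le_rfl hH).trans ?_
      refine (Regular.lcs_commutator_le _ _).trans (gamma_anti ?_)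
      ring_nf; omega
  have hbig : j + (p - 1) + 2 ≤ p * (j + 1) := by
    have : 3 * j ≤ p * j := Nat.mul_le_mul_right j hp3
    rw [Nat.mul_add, mul_one]
    omega
  have hHcl : (⊤ : Subgroup H).lowerCentralSeries (p - 1) = ⊥ := by
    rw [← Subgroup.map_eq_bot_iff_of_injective _ H.subtype_injective,
      Subgroup.top_subtype_lowerCentralSeries]
    exact le_bot_iff.1 (hchain.trans (hQbot hbig).le)
  have hc : ⁅π ⁅y, d⁆, π d⁆ ^ p = 1 := by
    have h1 := MaxClassLayers.power_mem hQ hUQ (show 1 ≤ 2 * j + 2 by omega)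
      (gamma_anti (show 2 * j + 2 ≤ j + 1 + j + 1 by omega) (gamma_comm (hπ hcd) (hπ hd)))
    rwa [hQbot (by omega), Subgroup.mem_bot] at h1
  have hmul := congrArg Subtype.val (mul_pow_of_pair (p := p)
    (((isPGroup hQ).to_subgroup H)) hHcl
    (a := ⟨π ⁅y, d⁆, Subgroup.subset_closure (Set.mem_insert _ _)⟩)
    (b := ⟨π d, Subgroup.subset_closure (Set.mem_insert_of_mem _ rfl)⟩) (Subtype.ext hc))
  push_cast at hmul
  rw [hmul, mul_eq_right] at hfix
  have hc' : π ⁅y, d⁆ ∉ Γ (X ⧸ Γ X (j + (p - 1) + 2)) (j + 1 + 1) := fun e =>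
    hcd' ((mem_gamma_quotient (by omega)).1 e)
  exact MaxClassLayers.power_notMem hQ hUQ (by omega) (hπ hcd) hc' (by omega)
    (hfix ▸ one_mem _)

end CfsgLib.MaxClassLayers
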