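import Cfsg.Agent.Lib.MaxClassLayers.Uniform

/-!
Blackburn's theorem on the degree of commutativity: in a `p`-group of maximal class (`p` odd) all
two-step centralizers but possibly the last one agree, and for odd `n` the last one agrees too.
-/

set_option autoImplicit false
set_option linter.unusedSectionVars false
set_option linter.style.haveILetI false

open scoped commutatorElement

namespace CfsgLib.MaxClassLayers

open CfsgLib.UniserialPower (Γ gamma_commutator)

universe u

variable {p : ℕ} [hp : Fact p.Prime] {X : Type u} [Group X] [Finite X] {n : ℕ}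

theorem eq_of_le_of_index {A B : Subgroup X} (hA : A.index = p) (hle : A ≤ B) (hne : B ≠ ⊤) :
    B = A := by
  have h1 := Subgroup.index_dvd_of_le hle
  rw [hA] at h1
  rcases (Nat.dvd_prime hp.out).1 h1 with e | e
  · exact absurd (Subgroup.index_eq_one.1 e) hne
  · have h2 := Subgroup.relIndex_mul_index hle
    rw [e, hA] at h2
    exact le_antisymm (Subgroup.relIndex_eq_one.1
      (Nat.eq_of_mul_eq_mul_right hp.out.pos (h2.trans (one_mul p).symm))) hle

/-- Each two-step centralizer has index `p`. -/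
theorem twoStep_index (h : MC X p n) {k : ℕ} (hk : 1 ≤ k) (hkn : k + 3 ≤ n) :
    (twoStep X k).index = p := by
  classical
  obtain ⟨d, hd, hd'⟩ := exists_level h hk (show k + 1 ≤ n - 1 by omega)
  let π := QuotientGroup.mk' (Γ X (k + 2))
  let f : X →* X ⧸ Γ X (k + 2) := MonoidHom.mk' (fun s => π ⁅d, s⁆)
    fun a b => comm_mul_right hd a b
  have hker : f.ker ≤ twoStep X k := fun s hs =>
    mem_twoStep_of_mem h hk hd hd' ((QuotientGroup.eq_one_iff _).1 hs)
  have hrange : f.range ≤ (Γ X (k + 1)).map π := by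
    rintro _ ⟨s, rfl⟩
    exact ⟨⁅d, s⁆, gamma_commutator hd, rfl⟩
  have hcard : Nat.card f.range ≤ p := by
    refine (Subgroup.card_le_of_le hrange).trans (le_of_eq ?_)
    rw [← map_gamma, card_gamma (quotient h (show 2 ≤ k + 2 by omega) (by omega)) (by omega) (by omega),
      show k + 2 + 1 - 1 - (k + 1) = 1 by omega, pow_one]
  have hne : (twoStep X k).index ≠ 1 := fun e => twoStep_ne_top h hkn (Subgroup.index_eq_one.1 e)
  obtain ⟨a, -, ha⟩ := (Nat.dvd_prime_pow hp.out).1 (h.card ▸ Subgroup.index_dvd_card (twoStep X k))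
  have hle : (twoStep X k).index ≤ p := by
    have h1 := Nat.le_of_dvd (Nat.pos_of_ne_zero Subgroup.index_ne_zero_of_finite)
      (Subgroup.index_dvd_of_le hker)
    rw [Subgroup.index_ker] at h1
    exact h1.trans hcard
  rw [ha] at hle hne ⊢
  have : a ≤ 1 := (Nat.pow_le_pow_iff_right hp.out.one_lt).1 (by simpa using hle)
  have : a ≠ 0 := fun e => hne (by rw [e, pow_zero])
  rw [show a = 1 by omega, pow_one]

theorem eq_twoStep_one (h : MC X p n) {k : ℕ} (hkn : k + 3 ≤ n) (hn : 4 ≤ n)
    (hle : twoStep X 1 ≤ twoStep X k) : twoStep X k = twoStep X 1 :=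
  eq_of_le_of_index (twoStep_index h le_rfl (by omega)) hle (twoStep_ne_top h hkn)

/-- An element of the first two-step centralizer outside the commutator, and one moving it. -/
theorem exists_pair (h : MC X p n) (hn : 4 ≤ n) :
    ∃ e y : X, e ∈ twoStep X 1 ∧ e ∉ Γ X 1 ∧ ⁅y, e⁆ ∉ Γ X 2 ∧
      twoStep X 1 ≤ Subgroup.zpowers e ⊔ Γ X 1 := by
  have hidx := twoStep_index h le_rfl (show 1 + 3 ≤ n by omega)
  have hM : Nat.card (twoStep X 1) = p ^ (n - 1) := by
    have h1 := (twoStep X 1).card_mul_index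
    rw [hidx, h.card] at h1
    refine Nat.eq_of_mul_eq_mul_right hp.out.pos (h1.trans ?_)
    rw [← pow_succ, show n - 1 + 1 = n by omega]
  obtain ⟨e, he, he'⟩ : ∃ e, e ∈ twoStep X 1 ∧ e ∉ Γ X 1 := by
    by_contra hcon
    push Not at hcon
    have h1 := Subgroup.card_le_of_le (show twoStep X 1 ≤ Γ X 1 from hcon)
    rw [hM, card_gamma h le_rfl (by omega)] at h1
    have := (Nat.pow_le_pow_iff_right hp.out.one_lt).1 h1
    omega
  obtain ⟨y, hy⟩ := exists_comm_notMem h he'
  refine ⟨e, y, he, he', hy, ?_⟩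
  have hle : Subgroup.zpowers e ⊔ Γ X 1 ≤ twoStep X 1 :=
    sup_le (Subgroup.zpowers_le.2 he) (gamma_one_le_twoStep 1)
  refine (Subgroup.eq_of_le_of_card_ge hle ?_).ge
  obtain ⟨a, ha⟩ := IsPGroup.iff_card.mp ((isPGroup h).to_subgroup (Subgroup.zpowers e ⊔ Γ X 1))
  rw [hM, ha]
  refine Nat.pow_le_pow_right hp.out.pos ?_
  by_contra hlt
  refine he' ((Subgroup.eq_of_le_of_card_ge
    (le_sup_right : Γ X 1 ≤ Subgroup.zpowers e ⊔ _) ?_).symm ▸
      Subgroup.mem_sup_left (Subgroup.mem_zpowers e))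
  rw [card_gamma h le_rfl (by omega), ha]
  exact Nat.pow_le_pow_right hp.out.pos (by omega)

theorem comm_first (h : MC X p n) (hn : 4 ≤ n) :
    ⁅twoStep X 1, twoStep X 1⁆ ≤ Γ X 3 := by
  obtain ⟨e, y, he, -, -, hgen⟩ := exists_pair h hn
  let π := QuotientGroup.mk' (Γ X 3)
  have key : ∀ a b : X, π a * π b = π b * π a → ⁅a, b⁆ ∈ Γ X 3 := fun a b hab => by
    refine (QuotientGroup.eq_one_iff _).1 ?_
    show π ⁅a, b⁆ = 1
    rw [map_commutatorElement, commutatorElement_eq_one_iff_mul_comm, hab]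
  have key' : ∀ a b : X, ⁅a, b⁆ ∈ Γ X 3 → π a * π b = π b * π a := fun a b hab => by
    rw [← commutatorElement_eq_one_iff_mul_comm, ← map_commutatorElement]
    exact (QuotientGroup.eq_one_iff _).2 hab
  let K : Subgroup X := (Subgroup.centralizer {π e}).comap π
  have h1 : twoStep X 1 ≤ K := hgen.trans (sup_le
    (Subgroup.zpowers_le.2 (Subgroup.mem_centralizer_singleton_iff.2 rfl)) fun g hg =>
      Subgroup.mem_centralizer_singleton_iff.2 (key' g e (he g hg)))
  rw [Subgroup.commutator_le]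
  intro a ha b hb
  refine key a b ?_
  let K' : Subgroup X := (Subgroup.centralizer {π a}).comap π
  have h2 : twoStep X 1 ≤ K' := hgen.trans (sup_le
    (Subgroup.zpowers_le.2 (Subgroup.mem_centralizer_singleton_iff.2
      (Subgroup.mem_centralizer_singleton_iff.1 (h1 ha)).symm)) fun g hg =>
      Subgroup.mem_centralizer_singleton_iff.2 (key' g a (ha g hg)))
  exact (Subgroup.mem_centralizer_singleton_iff.1 (h2 hb)).symm

/-- The layers, with the first two-step centralizer on top. -/
def L (X : Type*) [Group X] (i : ℕ) : Subgroup X := if i = 0 then twoStep X 1 else Γ X i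

theorem L_zero {X : Type*} [Group X] : L X 0 = twoStep X 1 := if_pos rfl

theorem L_pos {X : Type*} [Group X] {i : ℕ} (hi : i ≠ 0) : L X i = Γ X i := if_neg hi

theorem L_le (i : ℕ) : L X i ≤ Γ X i := by
  rcases i with _ | i
  · exact fun g _ => Subgroup.mem_top g
  · exact (L_pos (Nat.succ_ne_zero i)).le

theorem comm_L_gamma (i j : ℕ) : ⁅L X i, L X j⁆ ≤ Γ X (i + j + 1) :=
  Subgroup.commutator_le.2 fun _ ha _ hb => gamma_comm (L_le i ha) (L_le j hb)

theorem gamma_succ_le (h : MC X p n) (hn : 4 ≤ n) (i : ℕ) : Γ X (i + 1) ≤ ⁅L X i, ⊤⁆ := by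
  have hsucc : ∀ k, Γ X (k + 1) = ⁅Γ X k, (⊤ : Subgroup X)⁆ := fun k =>
    Subgroup.lowerCentralSeries_succ _ k
  rcases i with _ | i
  · rw [L_zero]
    obtain ⟨e, y, he, -, hy, -⟩ := exists_pair h hn
    refine (layer_gen h le_rfl (?_ : ⁅y, e⁆ ∈ Γ X 1) hy).trans (sup_le (Subgroup.zpowers_le.2 ?_) ?_)
    · exact gamma_comm (i := 0) (j := 0) (Subgroup.mem_top y) (Subgroup.mem_top e)
    · rw [← commutatorElement_inv]
      exact inv_mem (Subgroup.commutator_mem_commutator he (Subgroup.mem_top y))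
    · rw [hsucc 1]
      exact Subgroup.commutator_mono (gamma_one_le_twoStep 1) le_rfl
  · rw [L_pos (Nat.succ_ne_zero i), hsucc (i + 1)]

/-- The induction hypothesis: the lower two-step centralizers contain the first one. -/
def Deg (X : Type*) [Group X] (n : ℕ) : Prop :=
  ∀ k, 1 ≤ k → k + 5 ≤ n → twoStep X k = twoStep X 1

theorem comm_L (h : MC X p n) (hD : Deg X n) :
    ∀ i j, i + j + 5 ≤ n → ⁅L X i, L X j⁆ ≤ Γ X (i + j + 2) := by
  intro i
  induction i with
  | zero =>
    intro j hj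
    rw [L_zero, zero_add]
    rcases j with _ | j
    · exact (comm_first h (by omega)).trans (gamma_anti (by omega)) |>.trans' (by rw [L_zero])
    · rw [L_pos (Nat.succ_ne_zero j), Subgroup.commutator_comm, Subgroup.commutator_le]
      intro g hg s hs
      rw [← hD (j + 1) (by omega) (by omega)] at hs
      exact hs g hg
  | succ i ih =>
    intro j hj
    refine (Subgroup.commutator_mono ((L_pos (Nat.succ_ne_zero i)).le.trans
      (gamma_succ_le h (by omega) i)) le_rfl).trans (Regular.commutator_commutator_le _ _ _ _ ?_ ?_)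
    · refine (Subgroup.commutator_mono (?_ : ⁅⊤, L X j⁆ ≤ L X (j + 1)) le_rfl).trans ?_
      · rw [L_pos (Nat.succ_ne_zero j), Subgroup.commutator_comm, Subgroup.commutator_le]
        exact fun a ha b _ => gamma_commutator (L_le j ha)
      · rw [Subgroup.commutator_comm, show i + 1 + j + 2 = i + (j + 1) + 2 by omega]
        exact ih (j + 1) (by omega)
    · refine (Subgroup.commutator_mono (?_ : ⁅L X j, L X i⁆ ≤ Γ X (i + j + 2)) le_rfl).trans ?_
      · rw [Subgroup.commutator_comm]
        exact ih j (by omega)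
      · rw [show i + 1 + j + 2 = i + j + 2 + 1 by omega, Subgroup.commutator_le]
        exact fun a ha b _ => gamma_commutator ha

theorem gamma_high (h : MC X p n) {i j : ℕ} (hij : n ≤ i + j + 2) : ⁅L X i, L X j⁆ = ⊥ :=
  le_bot_iff.1 ((comm_L_gamma i j).trans (gamma_eq_bot h (by omega)).le)

/-- An exceptional group has trivial pairing into the last but one layer. -/
theorem comm_of_exceptional (h : MC X p n) (hn : 5 ≤ n) (hD : Deg X n)
    (hexc : twoStep X (n - 3) ≠ twoStep X 1) :
    ∀ i j, i + j + 4 = n → ⁅L X i, L X j⁆ ≤ Γ X (n - 2) := by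
  have hn2 : n - 3 + 2 = n - 1 := by omega
  have hpos : ∀ i j, 1 ≤ i → 1 ≤ j → i + j + 4 = n → ⁅L X i, L X j⁆ ≤ Γ X (n - 2) := by
    intro i j hi hj hij
    have h0 : ⁅⁅L X i, L X j⁆, L X 0⁆ ≤ ⊥ := by
      refine Regular.commutator_commutator_le _ _ _ _ ?_ ?_
      · refine (Subgroup.commutator_mono (comm_L h hD j 0 (by omega)) le_rfl).trans ?_
        rw [add_zero, ← L_pos (X := X) (show j + 2 ≠ 0 by omega)]
        exact (gamma_high h (by omega)).le
      · refine (Subgroup.commutator_mono (comm_L h hD 0 i (by omega)) le_rfl).trans ?_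
        rw [zero_add, ← L_pos (X := X) (show i + 2 ≠ 0 by omega)]
        exact (gamma_high h (by omega)).le
    intro u hu
    by_contra hu'
    have hu3 : u ∈ Γ X (n - 3) := gamma_anti (by omega) (comm_L_gamma i j hu)
    refine hexc (eq_twoStep_one h (by omega) (by omega) fun s hs => ?_)
    refine mem_twoStep_of_mem h (by omega) hu3 (by rwa [show n - 3 + 1 = n - 2 by omega]) ?_
    rw [Subgroup.mem_bot.1 (h0 (Subgroup.commutator_mem_commutator hu
      (show s ∈ L X 0 by rw [L_zero]; exact hs)))]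
    exact one_mem _
  have hzero : ⁅L X (n - 4), L X 0⁆ ≤ Γ X (n - 2) := by
    rw [show n - 4 = n - 5 + 1 by omega]
    refine (Subgroup.commutator_mono ((L_pos (Nat.succ_ne_zero _)).le.trans
      (gamma_succ_le h (by omega) (n - 5))) le_rfl).trans (Regular.commutator_commutator_le _ _ _ _ ?_ ?_)
    · refine (Subgroup.commutator_mono (?_ : ⁅⊤, L X 0⁆ ≤ L X 1) le_rfl).trans ?_
      · rw [L_pos one_ne_zero, Subgroup.commutator_comm, Subgroup.commutator_le]
        exact fun a ha b _ => gamma_commutator (L_le 0 ha)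
      · rcases Nat.eq_zero_or_pos (n - 5) with e | e
        · rw [e, L_pos one_ne_zero, L_zero, Subgroup.commutator_le]
          intro g hg s hs
          rw [show n - 2 = 3 by omega]
          exact hs g hg
        · exact hpos 1 (n - 5) le_rfl e (by omega)
    · refine (Subgroup.commutator_mono (comm_L h hD 0 (n - 5) (by omega)) le_rfl).trans ?_
      rw [show n - 2 = 0 + (n - 5) + 2 + 1 by omega, Subgroup.commutator_le]
      exact fun a ha b _ => gamma_commutator ha
  intro i j hij
  rcases Nat.eq_zero_or_pos i with rfl | hi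
  · rw [Subgroup.commutator_comm, show j = n - 4 by omega]
    exact hzero
  rcases Nat.eq_zero_or_pos j with rfl | hj
  · rw [show i = n - 4 by omega]
    exact hzero
  exact hpos i j hi hj hij

/-- Conjugating a commutator whose parts commute. -/
theorem conj_comm {G : Type*} [Group G] {a b y u r s c : G} (hu : u = ⁅a, b⁆)
    (hr : r = ⁅a, ⁅y, b⁆⁆) (hs : s = ⁅⁅y, a⁆, b⁆) (hc : c = ⁅⁅y, a⁆, ⁅y, b⁆⁆)
    (h1 : Commute u ⁅y, a⁆) (h2 : Commute u ⁅y, b⁆) (h3 : Commute r ⁅y, a⁆)
    (h4 : Commute s ⁅y, b⁆) (h5 : Commute u c) (h6 : Commute u s) :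
    ⁅y, u⁆ = r * c * s := by
  have e1 : y * u * y⁻¹ = ⁅⁅y, a⁆ * a, ⁅y, b⁆ * b⁆ := by
    rw [hu]; simp only [commutatorElement_def]; group
  have e2 : ⁅⁅y, a⁆ * a, ⁅y, b⁆ * b⁆ =
      ⁅y, a⁆ * (r * (⁅y, b⁆ * u * ⁅y, b⁆⁻¹)) * ⁅y, a⁆⁻¹ * (c * (⁅y, b⁆ * s * ⁅y, b⁆⁻¹)) := by
    rw [hu, hr, hs, hc]; simp only [commutatorElement_def]; group
  rw [commutatorElement_def y u, e1, e2, ← h2.eq, mul_inv_cancel_right, ← h4.eq,
    mul_inv_cancel_right, ← (h3.mul_left h1).eq, mul_inv_cancel_right]
  calc r * u * (c * s) * u⁻¹ = r * (u * (c * s) * u⁻¹) := by group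
    _ = r * c * s := by rw [(h5.mul_right h6).eq, mul_inv_cancel_right, mul_assoc]

theorem commute_of_high (h : MC X p n) {i j : ℕ} (hij : n ≤ i + j + 2) {a b : X} (ha : a ∈ Γ X i)
    (hb : b ∈ Γ X j) : Commute a b := by
  refine commutatorElement_eq_one_iff_mul_comm.1 (Subgroup.mem_bot.1 ?_)
  rw [← gamma_eq_bot h (show n - 1 ≤ i + j + 1 by omega)]
  exact gamma_comm ha hb

/-- The chain `e, [y, e], [y, [y, e]], …`. -/
def chain {G : Type*} [Group G] (y e : G) : ℕ → G
  | 0 => e
  | i + 1 => ⁅y, chain y e i⁆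

theorem chain_mem {e y : X} (he : e ∈ twoStep X 1) (i : ℕ) : chain y e i ∈ L X i := by
  induction i with
  | zero => rw [L_zero]; exact he
  | succ i ih =>
    rw [L_pos (Nat.succ_ne_zero i)]
    show ⁅y, chain y e i⁆ ∈ _
    rw [← commutatorElement_inv]
    exact inv_mem (gamma_commutator (L_le i ih))

theorem chain_notMem (h : MC X p n) (hD : Deg X n) {e y : X} (he : e ∈ twoStep X 1)
    (hy : ⁅y, e⁆ ∉ Γ X 2) : ∀ i, 1 ≤ i → i + 4 ≤ n → chain y e i ∉ Γ X (i + 1) := by
  intro i hi
  induction i, hi using Nat.le_induction with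
  | base => exact fun _ => hy
  | succ i hi ih =>
    intro hin hmem
    have hm : chain y e i ∈ Γ X i := L_le i (chain_mem he i)
    have h1 : y ∈ twoStep X i := by
      refine mem_twoStep_of_mem h hi hm (ih (by omega)) ?_
      rw [← commutatorElement_inv]
      exact inv_mem (show ⁅y, chain y e i⁆ ∈ Γ X (i + 2) from hmem)
    rw [hD i hi (by omega)] at h1
    exact hy (gamma_anti (by omega) (comm_first h (by omega) (Subgroup.commutator_mem_commutator h1 he)))

theorem exists_coprime_half {n : ℕ} (hodd : Odd n) (hn : 5 ≤ n) (hnp : n ≤ p + 3) (hp2 : p ≠ 2) :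
    ∃ m, n = 2 * m + 3 ∧ m + 4 ≤ n ∧ p.Coprime m ∧ 0 < m := by
  obtain ⟨k, rfl⟩ := hodd
  have := hp.out.two_le
  refine ⟨k - 1, by omega, by omega, (hp.out.coprime_iff_not_dvd).2 fun hd => ?_, by omega⟩
  have := Nat.le_of_dvd (by omega) hd
  omega

/-- The step of the induction. -/
theorem twoStep_penult (h : MC X p n) (hp2 : p ≠ 2) (hn : 5 ≤ n) (hD : Deg X n) :
    twoStep X (n - 4) = twoStep X 1 ∧ (Odd n → twoStep X (n - 3) = twoStep X 1) := by
  obtain ⟨e, y, he, -, hy, hgen⟩ := exists_pair h (by omega : 4 ≤ n)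
  have hyM : y ∉ twoStep X 1 := fun hy' => hy (gamma_anti (by omega)
    (comm_first h (by omega) (Subgroup.commutator_mem_commutator hy' he)))
  obtain ⟨c, hc0⟩ : ∃ c : ℕ → X, c = chain y e := ⟨_, rfl⟩
  have hcL : ∀ i, c i ∈ L X i := fun i => hc0 ▸ chain_mem he i
  have hcs : ∀ i, ⁅y, c i⁆ = c (i + 1) := fun i => by rw [hc0]; rfl
  have hcn : ∀ i, 1 ≤ i → i + 4 ≤ n → c i ∉ Γ X (i + 1) := fun i hi hin =>
    hc0 ▸ chain_notMem h hD he hy i hi hin
  have hc1 : ∀ i, c (i + 1) ∈ Γ X 1 := fun i =>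
    gamma_anti (by omega) (L_le (i + 1) (hcL (i + 1)))
  -- the pairings
  obtain ⟨δ, hδ⟩ : ∃ δ : X → X, ∀ v, δ v = ⁅y, v⁆ := ⟨_, fun _ => rfl⟩
  have hδmem : ∀ v ∈ Γ X (n - 3), δ v ∈ Γ X (n - 2) := fun v hv => by
    rw [hδ, ← commutatorElement_inv, show n - 2 = n - 3 + 1 by omega]
    exact inv_mem (gamma_commutator hv)
  have hcent : ∀ z ∈ Γ X (n - 2), ∀ w : X, Commute w z := fun z hz w =>
    commute_of_high h (i := 0) (by omega) (Subgroup.mem_top w) hz
  have hδmul : ∀ v ∈ Γ X (n - 3), ∀ w ∈ Γ X (n - 3), δ (v * w) = δ v * δ w := by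
    intro v hv w hw
    rw [hδ, hδ, hδ, show ⁅y, v * w⁆ = ⁅y, v⁆ * (v * ⁅y, w⁆ * v⁻¹) by
      simp only [commutatorElement_def]; group, (hcent _ (hδ w ▸ hδmem w hw) v).eq,
      mul_inv_cancel_right]
  have hδone : ∀ z ∈ Γ X (n - 2), δ z = 1 := fun z hz => by
    rw [hδ]; exact commutatorElement_eq_one_iff_mul_comm.2 (hcent z hz y)
  have hpair : ∀ i j, n ≤ i + j + 4 → ⁅c i, c j⁆ ∈ Γ X (n - 3) := fun i j hij =>
    gamma_anti (by omega) (comm_L_gamma i j (Subgroup.commutator_mem_commutator (hcL i) (hcL j)))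
  have hpair2 : ∀ i j, n ≤ i + j + 3 → ⁅c i, c j⁆ ∈ Γ X (n - 2) := fun i j hij =>
    gamma_anti (by omega) (comm_L_gamma i j (Subgroup.commutator_mem_commutator (hcL i) (hcL j)))
  -- the two identities
  have hA : ∀ i j, i + j + 4 = n → δ ⁅c i, c j⁆ = ⁅c i, c (j + 1)⁆ * ⁅c (i + 1), c j⁆ := by
    intro i j hij
    have hu : ⁅c i, c j⁆ ∈ Γ X (n - 3) := hpair i j (by omega)
    have hz : ⁅c (i + 1), c (j + 1)⁆ = 1 := by
      refine Subgroup.mem_bot.1 ((gamma_high h (i := i + 1) (j := j + 1) (by omega)).le ?_)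
      exact Subgroup.commutator_mem_commutator (hcL _) (hcL _)
    rw [hδ, conj_comm (y := y) rfl rfl rfl rfl (by rw [hcs]; exact commute_of_high h (by omega) hu (hc1 i))
      (by rw [hcs]; exact commute_of_high h (by omega) hu (hc1 j))
      (by rw [hcs, hcs]; exact (hcent _ (hpair2 i (j + 1) (by omega)) _).symm)
      (by rw [hcs, hcs]; exact (hcent _ (hpair2 (i + 1) j (by omega)) _).symm)
      (by rw [hcs, hcs, hz]; exact Commute.one_right _)
      (by rw [hcs]; exact hcent _ (hpair2 (i + 1) j (by omega)) _)]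
    rw [hcs, hcs, hz, mul_one]
  have hA' : ∀ i j, i + j + 5 = n → δ ⁅c i, c (j + 1)⁆ * δ ⁅c (i + 1), c j⁆ = 1 := by
    intro i j hij
    have hu : ⁅c i, c j⁆ ∈ Γ X (n - 3) := gamma_anti (by omega)
      (comm_L h hD i j (by omega) (Subgroup.commutator_mem_commutator (hcL i) (hcL j)))
    have hr := hpair i (j + 1) (by omega)
    have hs := hpair (i + 1) j (by omega)
    have hz := hpair2 (i + 1) (j + 1) (by omega)
    have h1 : δ ⁅c i, c j⁆ = ⁅c i, c (j + 1)⁆ * ⁅c (i + 1), c (j + 1)⁆ * ⁅c (i + 1), c j⁆ := by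
      rw [hδ, conj_comm (y := y) rfl rfl rfl rfl
        (by rw [hcs]; exact commute_of_high h (by omega) hu (hc1 i))
        (by rw [hcs]; exact commute_of_high h (by omega) hu (hc1 j))
        (by rw [hcs, hcs]; exact commute_of_high h (by omega) hr (hc1 i))
        (by rw [hcs, hcs]; exact commute_of_high h (by omega) hs (hc1 j))
        (by rw [hcs, hcs]; exact hcent _ hz _)
        (by rw [hcs]; exact commute_of_high h (by omega) hu hs)]
      rw [hcs, hcs]
    have hz3 : ⁅c (i + 1), c (j + 1)⁆ ∈ Γ X (n - 3) := gamma_anti (by omega) hz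
    have h2 := congrArg δ h1
    rw [hδone _ (hδmem _ hu), hδmul _ (mul_mem hr hz3) _ hs, hδmul _ hr _ hz3, hδone _ hz,
      mul_one] at h2
    exact h2.symm
  -- the values
  obtain ⟨A, hAdef⟩ : ∃ A, A = δ ⁅c 0, c (n - 4)⁆ := ⟨_, rfl⟩
  have hAz : A ∈ Γ X (n - 2) := hAdef ▸ hδmem _ (hpair _ _ (by omega))
  have hAp : A ^ p = 1 := by
    have h1 := pow_card_eq_one' (x := (⟨A, hAz⟩ : Γ X (n - 2)))
    rw [card_gamma h (by omega) (by omega), show n - 1 - (n - 2) = 1 by omega, pow_one] at h1
    exact congrArg Subtype.val h1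
  have hAval : ∀ i, i + 4 ≤ n → δ ⁅c i, c (n - 4 - i)⁆ = A ^ ((-1 : ℤ) ^ i) := by
    intro i
    induction i with
    | zero => intro _; rw [pow_zero, zpow_one, Nat.sub_zero, hAdef]
    | succ i ih =>
      intro hi
      have h1 := hA' i (n - 5 - i) (by omega)
      rw [show n - 5 - i + 1 = n - 4 - i by omega, ih (by omega),
        show n - 5 - i = n - 4 - (i + 1) by omega] at h1
      rw [eq_inv_of_mul_eq_one_right h1, ← zpow_neg, pow_succ, mul_neg_one]
  have hB : ∀ i, i + 4 ≤ n → ⁅c (i + 1), c (n - 3 - (i + 1))⁆ =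
      ⁅c i, c (n - 3 - i)⁆⁻¹ * A ^ ((-1 : ℤ) ^ i) := by
    intro i hi
    rw [← hAval i hi, hA i (n - 4 - i) (by omega), show n - 4 - i + 1 = n - 3 - i by omega,
      show n - 3 - (i + 1) = n - 4 - i by omega, inv_mul_cancel_left]
  have hBval : ∀ i, i + 3 ≤ n → ⁅c i, c (n - 3 - i)⁆ =
      ⁅c 0, c (n - 3)⁆ ^ ((-1 : ℤ) ^ i) * A ^ (-((-1 : ℤ) ^ i) * (i : ℤ)) := by
    intro i
    induction i with
    | zero => intro _; rw [pow_zero, zpow_one, Nat.sub_zero, Nat.cast_zero, mul_zero, zpow_zero, mul_one]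
    | succ i ih =>
      intro hi
      rw [hB i (by omega), ih (by omega), mul_inv_rev, ← zpow_neg, ← zpow_neg]
      have hb : Commute (⁅c 0, c (n - 3)⁆) A := hcent A hAz _
      rw [(hb.zpow_zpow _ _).eq.symm, mul_assoc, ← zpow_add, pow_succ, mul_neg_one, Nat.cast_succ]
      congr 2
      ring
  -- the end: `c 0` centralizes a layer
  have hM : ∀ k, 1 ≤ k → e ∈ twoStep X k → twoStep X 1 ≤ twoStep X k := fun k _ hek =>
    hgen.trans (sup_le (Subgroup.zpowers_le.2 hek) (gamma_one_le_twoStep k))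
  have hce : c 0 = e := by rw [hc0]; rfl
  by_cases hexc : twoStep X (n - 3) = twoStep X 1
  · refine ⟨?_, fun _ => hexc⟩
    have hB0 : ⁅c 0, c (n - 3)⁆ = 1 := by
      have hm : c 0 ∈ twoStep X (n - 3) := by rw [hexc, hce]; exact he
      have h1 := hm (c (n - 3)) (L_le _ (hcL _))
      rw [gamma_eq_bot h (show n - 1 ≤ n - 3 + 2 by omega), Subgroup.mem_bot] at h1
      rw [← commutatorElement_inv, h1, inv_one]
    by_cases hbig : p + 4 ≤ n
    · -- powers
      have hU := hasUniform hp2 n X h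
      obtain ⟨k, hk1, hkn⟩ : ∃ k, 1 ≤ k ∧ n = k + p + 3 := ⟨n - 3 - p, by omega, by omega⟩
      obtain ⟨d, hd, hd'⟩ := exists_level h hk1 (show k + 1 ≤ n - 1 by omega)
      have hp1 : 2 ≤ p := hp.out.two_le
      have hd1 : d ^ p ∈ Γ X (n - 4) := gamma_anti (by omega) (power_mem h hU hk1 hd)
      have hd2 : d ^ p ∉ Γ X (n - 4 + 1) := by
        rw [show n - 4 + 1 = k + p by omega]
        exact power_notMem h hU hk1 hd hd' (by omega)
      refine eq_twoStep_one h (by omega) (by omega) fun s hs => ?_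
      refine mem_twoStep_of_mem h (by omega) hd1 hd2 ?_
      rw [show n - 4 + 2 = n - 2 by omega]
      obtain ⟨v, hv⟩ : ∃ v, v = ⁅s, d⁆ := ⟨_, rfl⟩
      have hvk : v ∈ Γ X (k + 2) := by
        rw [hv, show k + 2 = 0 + k + 2 by omega]
        refine comm_L h hD 0 k (by omega) (Subgroup.commutator_mem_commutator ?_ ?_)
        · rw [L_zero]; exact hs
        · rw [L_pos (Nat.pos_iff_ne_zero.1 hk1)]; exact hd
      let π := QuotientGroup.mk' (Γ X (n - 2))
      let Hd : Subgroup (X ⧸ Γ X (n - 2)) := (Γ X k).map π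
      have hHd : ∀ t, ((⊤ : Subgroup Hd).lowerCentralSeries t).map Hd.subtype ≤
          (Γ X (k + 2 * t)).map π := by
        intro t
        induction t with
        | zero => rw [Subgroup.lowerCentralSeries_zero, ← MonoidHom.range_eq_map, Subgroup.range_subtype, Nat.mul_zero, add_zero]
        | succ t ih =>
          rw [Subgroup.lowerCentralSeries_succ, Subgroup.map_commutator, ← MonoidHom.range_eq_map,
            Subgroup.range_subtype]
          refine (Subgroup.commutator_mono ih le_rfl).trans ?_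
          rw [← Subgroup.map_commutator]
          exact Subgroup.map_mono (Subgroup.commutator_le.2 fun a ha b hb =>
            gamma_anti (by omega) (gamma_comm ha hb))
      have hcl : (⊤ : Subgroup Hd).lowerCentralSeries (p - 1) = ⊥ := by
        rw [← Subgroup.map_eq_bot_iff_of_injective _ Hd.subtype_injective, eq_bot_iff]
        refine (hHd (p - 1)).trans ?_
        rw [Subgroup.map_le_iff_le_comap, MonoidHom.comap_bot, QuotientGroup.ker_mk']
        have := hp.out.two_le
        exact gamma_anti (by omega)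
      have hvH : π v ∈ Hd := ⟨v, gamma_anti (by omega) hvk, rfl⟩
      have hdH : π d ∈ Hd := ⟨d, hd, rfl⟩
      have hHp : IsPGroup p Hd := ((isPGroup h).to_quotient _).to_subgroup _
      have hcomm : ⁅(⟨π v, hvH⟩ : Hd), (⟨π d, hdH⟩ : Hd)⁆ ^ p = 1 := by
        refine Subtype.ext ?_
        show ⁅π v, π d⁆ ^ p = 1
        rw [← map_commutatorElement, ← map_pow]
        refine (QuotientGroup.eq_one_iff _).2 (gamma_anti (by omega)
          (power_mem h hU (show 1 ≤ k + 2 + k + 1 by omega) (gamma_comm hvk hd)))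
      have hmul := congrArg Subtype.val (mul_pow_of_pair hHp hcl hcomm)
      rw [← commutatorElement_inv]
      refine inv_mem ((QuotientGroup.eq_one_iff _).1 ?_)
      show π ⁅s, d ^ p⁆ = 1
      have hvp : π v ^ p = 1 := by
        rw [← map_pow]
        exact (QuotientGroup.eq_one_iff _).2 (gamma_anti (by omega)
          (power_mem h hU (show 1 ≤ k + 2 by omega) hvk))
      rw [show ⁅s, d ^ p⁆ = (s * d * s⁻¹) ^ p * (d ^ p)⁻¹ by rw [conj_pow, commutatorElement_def],
        show s * d * s⁻¹ = v * d by rw [hv, commutatorElement_def]; group,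
        map_mul, map_inv, map_pow, map_pow, map_mul]
      have hmul' : (π v * π d) ^ p = π v ^ p * π d ^ p := hmul
      rw [hmul', hvp, one_mul, mul_inv_cancel]
    · -- the pairing
      have hA0 : A = 1 := by
        rcases Nat.even_or_odd n with ⟨m, hm⟩ | hodd
        · have h1 := hAval (m - 2) (by omega)
          rw [show n - 4 - (m - 2) = m - 2 by omega, commutatorElement_self, hδone _ (one_mem _)] at h1
          rcases Nat.even_or_odd (m - 2) with he' | ho'
          · rw [he'.neg_one_pow, zpow_one] at h1; exact h1.symm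
          · rw [ho'.neg_one_pow, zpow_neg_one] at h1; exact inv_eq_one.1 h1.symm
        · obtain ⟨m, hm, hm4, hcop, hm0⟩ := exists_coprime_half (p := p) hodd hn (by omega) hp2
          have h1 := hBval m (by omega)
          rw [show n - 3 - m = m by omega, commutatorElement_self, hB0, one_zpow, one_mul] at h1
          have h2 : A ^ m = 1 := by
            rcases Nat.even_or_odd m with he' | ho'
            · rw [he'.neg_one_pow, neg_one_mul, zpow_neg, zpow_natCast] at h1
              exact inv_eq_one.1 h1.symm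
            · rw [ho'.neg_one_pow, neg_neg, one_mul, zpow_natCast] at h1
              exact h1.symm
          rw [← orderOf_eq_one_iff]
          exact Nat.eq_one_of_dvd_coprimes hcop (orderOf_dvd_of_pow_eq_one hAp)
            (orderOf_dvd_of_pow_eq_one h2)
      -- the commutator lies in the centre
      have ha0 : ⁅c 0, c (n - 4)⁆ ∈ Γ X (n - 2) := by
        by_contra hcon
        refine hyM ?_
        rw [← hexc]
        refine mem_twoStep_of_mem h (by omega) (hpair 0 (n - 4) (by omega))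
          (by rwa [show n - 3 + 1 = n - 2 by omega]) ?_
        rw [← commutatorElement_inv, ← hδ, ← hAdef, hA0, inv_one]
        exact one_mem _
      refine eq_twoStep_one h (by omega) (by omega) (hM _ (by omega) (mem_twoStep_of_mem h
        (by omega) (L_le _ (hcL (n - 4))) (hcn _ (by omega) (by omega)) ?_))
      rw [show n - 4 + 2 = n - 2 by omega, ← commutatorElement_inv, ← hce]
      exact inv_mem ha0
  · have hexc' := comm_of_exceptional h hn hD hexc
    have h4 : twoStep X (n - 4) = twoStep X 1 := by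
      refine eq_twoStep_one h (by omega) (by omega) fun s hs g hg => ?_
      rw [show n - 4 + 2 = n - 2 by omega]
      refine hexc' (n - 4) 0 (by omega) (Subgroup.commutator_mem_commutator ?_ ?_)
      · rw [L_pos (show n - 4 ≠ 0 by omega)]
        exact hg
      · rw [L_zero]; exact hs
    refine ⟨h4, fun hodd => absurd ?_ hexc⟩
    have hA0 : A = 1 := by
      rw [hAdef]
      exact hδone _ (hexc' 0 (n - 4) (by omega) (Subgroup.commutator_mem_commutator (hcL _) (hcL _)))
    obtain ⟨k, hk⟩ := hodd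
    have h1 := hBval (k - 1) (by omega)
    rw [show n - 3 - (k - 1) = k - 1 by omega, commutatorElement_self, hA0, one_zpow, mul_one] at h1
    have hB0 : ⁅c 0, c (n - 3)⁆ = 1 := by
      rcases Nat.even_or_odd (k - 1) with he' | ho'
      · rw [he'.neg_one_pow, zpow_one] at h1; exact h1.symm
      · rw [ho'.neg_one_pow, zpow_neg_one] at h1; exact inv_eq_one.1 h1.symm
    have hn3 : c (n - 3) ∉ Γ X (n - 3 + 1) := by
      intro hmem
      refine hyM (h4 ▸ mem_twoStep_of_mem h (show 1 ≤ n - 4 by omega) (L_le _ (hcL (n - 4)))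
        (hcn _ (by omega) (by omega)) ?_)
      rw [← commutatorElement_inv, hcs, show n - 4 + 1 = n - 3 by omega]
      refine inv_mem ?_
      rw [show n - 4 + 2 = n - 3 + 1 by omega]
      exact hmem
    refine eq_twoStep_one h (by omega) (by omega) (hM _ (by omega) (mem_twoStep_of_mem h (by omega)
      (L_le _ (hcL (n - 3))) hn3 ?_))
    rw [← hce, ← commutatorElement_inv, hB0, inv_one]
    exact one_mem _

/-- **Blackburn**: all two-step centralizers but possibly the last agree, and for odd `n` all agree. -/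
theorem twoStep_eq (hp2 : p ≠ 2) : ∀ (n : ℕ) (X : Type u) [Group X] [Finite X], MC X p n → 5 ≤ n →
    (∀ k, 1 ≤ k → k + 4 ≤ n → twoStep X k = twoStep X 1) ∧
      (Odd n → twoStep X (n - 3) = twoStep X 1) := by
  intro n
  induction n using Nat.strong_induction_on with
  | _ n ih => ?_
  intro X _ _ h hn
  have hD : Deg X n := by
    intro k hk hkn
    have hQ : MC (X ⧸ Γ X (n - 2)) p (n - 1) := by
      have := quotient h (show 2 ≤ n - 2 by omega) (by omega)
      rwa [show n - 2 + 1 = n - 1 by omega] at this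
    have hiff : ∀ j, j + 2 ≤ n - 2 → ∀ s : X,
        s ∈ twoStep X j ↔ QuotientGroup.mk' (Γ X (n - 2)) s ∈ twoStep (X ⧸ Γ X (n - 2)) j := by
      intro j hj s
      constructor
      · intro hs g hg
        rw [map_gamma] at hg
        obtain ⟨g, hg, rfl⟩ := hg
        rw [← map_commutatorElement, mem_gamma_quotient hj]
        exact hs g hg
      · intro hs g hg
        rw [← mem_gamma_quotient (m := n - 2) hj, map_commutatorElement]
        exact hs _ ((mem_gamma_quotient (show j ≤ n - 2 by omega)).2 hg)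
    have := (ih (n - 1) (by omega) _ hQ (by omega)).1 k hk (by omega)
    ext s
    rw [hiff k (by omega), hiff 1 (by omega), this]
  obtain ⟨h1, h2⟩ := twoStep_penult h hp2 hn hD
  refine ⟨fun k hk hkn => ?_, h2⟩
  rcases Nat.lt_or_ge (k + 4) n with hlt | hge
  · exact hD k hk (by omega)
  · rw [show k = n - 4 by omega]; exact h1

end CfsgLib.MaxClassLayers
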