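import Cfsg.Agent.Lib.MaxClassLayers.Uniform

/-!
There is no group of maximal class, odd order `p ^ (p + 1)` and exponent `p`.
-/

set_option autoImplicit false
set_option linter.unusedSectionVars false

open scoped commutatorElement

namespace CfsgLib.MaxClassLayers

open CfsgLib.UniserialPower (Γ gamma_commutator iterC)
open Polynomial

variable {p : ℕ} [hp : Fact p.Prime]

theorem pw_add {G : Type*} [Group G] {g : G} (hg : g ^ p = 1) (a b : ZMod p) :
    g ^ (a + b).val = g ^ a.val * g ^ b.val := by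
  rw [ZMod.val_add, ← pow_eq_pow_mod _ hg, pow_add]

theorem pw_mul {G : Type*} [Group G] {g : G} (hg : g ^ p = 1) (a b : ZMod p) :
    g ^ (a * b).val = (g ^ a.val) ^ b.val := by
  rw [ZMod.val_mul, ← pow_eq_pow_mod _ hg, pow_mul]

theorem pw_neg {G : Type*} [Group G] {g : G} (hg : g ^ p = 1) (a : ZMod p) :
    g ^ (-a).val = (g ^ a.val)⁻¹ := by
  rw [eq_inv_iff_mul_eq_one, ← pw_add hg, neg_add_cancel, ZMod.val_zero, pow_zero]

theorem conj_inv_mem {G : Type*} [Group G] {N : Subgroup G} {g : G} (hg : g ^ p = 1)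
    (h : ∀ u ∈ N, g * u * g⁻¹ ∈ N) {u : G} (hu : u ∈ N) : g⁻¹ * u * g ∈ N := by
  have key : ∀ m : ℕ, ∀ u ∈ N, g ^ m * u * (g ^ m)⁻¹ ∈ N := fun m => by
    induction m with
    | zero => intro u hu; simpa using hu
    | succ m ih =>
      intro u hu
      rw [pow_succ', mul_inv_rev, show g * g ^ m * u * ((g ^ m)⁻¹ * g⁻¹) =
        g * (g ^ m * u * (g ^ m)⁻¹) * g⁻¹ by group]
      exact h _ (ih u hu)
  have hinv : g ^ (p - 1) = g⁻¹ := by
    refine eq_inv_of_mul_eq_one_left ?_
    rw [← pow_succ, show p - 1 + 1 = p by have := hp.out.pos; omega, hg]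
  simpa [hinv] using key (p - 1) u hu

theorem false_of_exponent (hp2 : p ≠ 2) {X : Type*} [Group X] [Finite X] (h : MC X p (p + 1))
    (hexp : ∀ g : X, g ^ p = 1) : False := by
  classical
  have hpp := hp.out.two_le
  have hp3 : 3 ≤ p := by omega
  have hne : (⊥ : Subgroup X) ≠ ⊤ := fun e => by
    have h1 : Nat.card (⊥ : Subgroup X) = Nat.card (⊤ : Subgroup X) := by rw [e]
    rw [Subgroup.card_bot, Subgroup.card_top, h.card] at h1
    exact (Nat.one_lt_pow (by omega) hp.out.one_lt).ne h1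
  obtain ⟨M, hM, -⟩ := (IsCoatomic.eq_top_or_exists_le_coatom (⊥ : Subgroup X)).resolve_left hne
  obtain ⟨x, -, hx⟩ := hasUniform hp2 (p + 1) X h M hM
  obtain ⟨s, hs⟩ := exists_comm_notMem h hx.1
  let d : ℕ → X := fun k => iterC s x k
  have hdmem : ∀ k, d k ∈ Γ X k := fun k => by
    induction k with
    | zero => exact Subgroup.mem_top _
    | succ k ih => exact gamma_commutator ih
  have hdnot : ∀ k, 1 ≤ k → k + 1 ≤ p → d k ∉ Γ X (k + 1) := by
    intro k hk
    induction k, hk using Nat.le_induction with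
    | base => exact fun _ => hs
    | succ k hk ih =>
      intro hkp hc
      exact hx.2 k hk (by omega) (mem_twoStep_of_mem h hk (hdmem k) (ih (by omega)) hc)
  have hds : ∀ k, 1 ≤ k → ∃ c : ZMod p, QuotientGroup.mk' (Γ X (k + 2)) ⁅d k, s⁆ =
      QuotientGroup.mk' (Γ X (k + 2)) (d (k + 1)) ^ c.val := by
    intro k hk
    by_cases hkp : k + 1 + 1 ≤ p
    · obtain ⟨w, hw, v, hv, e⟩ := Subgroup.mem_sup_of_normal_right.1
        (layer_gen h (by omega) (hdmem (k + 1)) (hdnot (k + 1) (by omega) hkp)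
          (gamma_commutator (hdmem k) : ⁅d k, s⁆ ∈ Γ X (k + 1)))
      obtain ⟨i, rfl⟩ := Subgroup.mem_zpowers_iff.1 hw
      refine ⟨(i : ZMod p), ?_⟩
      rw [← e, map_mul, show QuotientGroup.mk' (Γ X (k + 2)) v = 1 from (QuotientGroup.eq_one_iff _).2 hv,
        mul_one, map_zpow, ← zpow_natCast _ (ZMod.val _), ZMod.val_intCast]
      refine zpow_eq_zpow_emod' i ?_
      rw [← map_pow, hexp, map_one]
    · refine ⟨0, ?_⟩
      rw [ZMod.val_zero, pow_zero]
      refine (QuotientGroup.eq_one_iff _).2 ?_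
      have h1 := gamma_commutator (k := s) (hdmem k)
      rw [gamma_eq_bot h (show p + 1 - 1 ≤ k + 1 by omega), Subgroup.mem_bot] at h1
      rw [h1]
      exact one_mem _
  -- commutators of an element of a layer
  have hlin : ∀ (k : ℕ) (u : X), u ∈ Γ X k → ∀ e : ℕ,
      QuotientGroup.mk' (Γ X (k + 1)) u = QuotientGroup.mk' (Γ X (k + 1)) (d k) ^ e → ∀ g : X,
      QuotientGroup.mk' (Γ X (k + 2)) ⁅u, g⁆ = QuotientGroup.mk' (Γ X (k + 2)) ⁅d k, g⁆ ^ e := by
    intro k u _ e he g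
    have hv : (d k ^ e)⁻¹ * u ∈ Γ X (k + 1) := by
      refine (QuotientGroup.eq (s := Γ X (k + 1))).1 ?_
      exact ((map_pow (QuotientGroup.mk' (Γ X (k + 1))) (d k) e).trans he.symm)
    rw [show u = d k ^ e * ((d k ^ e)⁻¹ * u) by group,
      comm_mul_left (gamma_anti (Nat.le_succ k) hv) g]
    have h1 : QuotientGroup.mk' (Γ X (k + 2)) ⁅(d k ^ e)⁻¹ * u, g⁆ = 1 :=
      (QuotientGroup.eq_one_iff _).2 (gamma_commutator hv)
    rw [h1, mul_one]
    clear he hv h1
    induction e with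
    | zero => rw [pow_zero, pow_zero, commutatorElement_one_left, map_one]
    | succ e ih => rw [pow_succ', comm_mul_left (pow_mem (hdmem k) e), ih, ← pow_succ']
  have hright : ∀ (k : ℕ) (u : X), u ∈ Γ X k → ∀ (g : X) (e : ℕ),
      QuotientGroup.mk' (Γ X (k + 2)) ⁅u, g ^ e⁆ = QuotientGroup.mk' (Γ X (k + 2)) ⁅u, g⁆ ^ e := by
    intro k u hu g e
    induction e with
    | zero => rw [pow_zero, pow_zero, commutatorElement_one_right, map_one]
    | succ e ih => rw [pow_succ', comm_mul_right hu, ih, ← pow_succ']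
  -- the wreath product
  let e₂ : ℕ → CyclicWreath.W p := fun k => iterC (CyclicWreath.point p) (CyclicWreath.shift p) k
  have he₂ : ∀ k, e₂ k ∈ CyclicWreath.row p k := fun k => by
    induction k with
    | zero => exact CyclicWreath.point_mem p
    | succ k ih => exact CyclicWreath.commutator_shift_mem p ih
  have hrowc : ∀ {u v : CyclicWreath.W p}, u ∈ CyclicWreath.row p 0 → v ∈ CyclicWreath.row p 0 →
      u * v = v * u := by
    rintro _ _ ⟨f, -, rfl⟩ ⟨g, -, rfl⟩
    exact CyclicWreath.commute_base p f g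
  have hWb : ∀ {u v : CyclicWreath.W p}, u ∈ CyclicWreath.row p 0 → v ∈ CyclicWreath.row p 0 →
      ⁅u * v, CyclicWreath.shift p⁆ = ⁅u, CyclicWreath.shift p⁆ * ⁅v, CyclicWreath.shift p⁆ := by
    intro u v hu hv
    have hv' := CyclicWreath.row_anti p (Nat.zero_le 1) (CyclicWreath.commutator_shift_mem p hv)
    have hu' := CyclicWreath.row_anti p (Nat.zero_le 1) (CyclicWreath.commutator_shift_mem p hu)
    rw [show ⁅u * v, CyclicWreath.shift p⁆ = u * ⁅v, CyclicWreath.shift p⁆ * u⁻¹ * ⁅u, CyclicWreath.shift p⁆ by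
      simp only [commutatorElement_def]; group, hrowc hu hv', mul_inv_cancel_right, hrowc hv' hu']
  have hWpow : ∀ (k e : ℕ), ⁅e₂ k ^ e, CyclicWreath.shift p⁆ = e₂ (k + 1) ^ e := fun k e => by
    induction e with
    | zero => simp
    | succ e ih =>
      rw [pow_succ', hWb (CyclicWreath.row_anti p (Nat.zero_le k) (he₂ k))
        (pow_mem (CyclicWreath.row_anti p (Nat.zero_le k) (he₂ k)) e), ih, pow_succ']
      rfl
  -- the pair
  let a : (ZMod p → X) × CyclicWreath.W p := (fun t => s ^ t.val, CyclicWreath.point p)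
  let b : (ZMod p → X) × CyclicWreath.W p := (fun _ => x, CyclicWreath.shift p)
  have hpd : ∀ k, QuotientGroup.mk' (Γ X (k + 1)) (d k) ^ p = 1 := fun k => by
    rw [← map_pow, hexp, map_one]
  have he₂p : ∀ k, e₂ k ^ p = 1 := fun k => CyclicWreath.pow_eq_one_of_mem p (he₂ k)
  let R : ℕ → Subgroup ((ZMod p → X) × CyclicWreath.W p) := fun k =>
    { carrier := {u | (∀ t, u.1 t ∈ Γ X k) ∧ ∃ P : (ZMod p)[X], P.natDegree ≤ k ∧ P.coeff 0 = 0 ∧
        (∀ t, QuotientGroup.mk' (Γ X (k + 1)) (u.1 t) =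
          QuotientGroup.mk' (Γ X (k + 1)) (d k) ^ (P.eval t).val) ∧
        ∃ v ∈ CyclicWreath.row p (k + 1), u.2 = e₂ k ^ (P.coeff 1).val * v}
      one_mem' := ⟨fun t => one_mem _, 0, by simp, by simp, fun t => by
        rw [eval_zero, ZMod.val_zero, pow_zero]; exact map_one _, 1, one_mem _, by simp⟩
      mul_mem' := by
        rintro u w ⟨hu, P, hP, hP0, hPe, v, hv, hu2⟩ ⟨hw, Q, hQ, hQ0, hQe, v', hv', hw2⟩
        refine ⟨fun t => mul_mem (hu t) (hw t), P + Q, (natDegree_add_le P Q).trans (max_le hP hQ),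
          by rw [coeff_add, hP0, hQ0, add_zero], fun t => ?_, v * v', mul_mem hv hv', ?_⟩
        · show QuotientGroup.mk' _ (u.1 t * w.1 t) = _
          rw [map_mul, hPe, hQe, eval_add, pw_add (hpd k)]
        · show u.2 * w.2 = _
          rw [hu2, hw2, coeff_add, pw_add (he₂p k)]
          have hv0 := CyclicWreath.row_anti p (Nat.zero_le (k + 1)) hv
          have he0 := pow_mem (CyclicWreath.row_anti p (Nat.zero_le k) (he₂ k)) (Q.coeff 1).val
          rw [mul_assoc, mul_assoc, ← mul_assoc v, hrowc hv0 he0, mul_assoc]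
      inv_mem' := by
        rintro u ⟨hu, P, hP, hP0, hPe, v, hv, hu2⟩
        refine ⟨fun t => inv_mem (hu t), -P, by rwa [natDegree_neg], by rw [coeff_neg, hP0, neg_zero],
          fun t => ?_, v⁻¹, inv_mem hv, ?_⟩
        · show QuotientGroup.mk' _ (u.1 t)⁻¹ = _
          rw [map_inv, hPe, eval_neg, pw_neg (hpd k)]
        · show u.2⁻¹ = _
          rw [hu2, coeff_neg, pw_neg (he₂p k), mul_inv_rev]
          exact hrowc (inv_mem (CyclicWreath.row_anti p (Nat.zero_le (k + 1)) hv))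
            (inv_mem (pow_mem (CyclicWreath.row_anti p (Nat.zero_le k) (he₂ k)) _)) }
  have hrow : ∀ k, ∀ u ∈ R k, u.2 ∈ CyclicWreath.row p k := by
    rintro k u ⟨-, P, -, -, -, v, hv, hu2⟩
    rw [hu2]
    exact mul_mem (pow_mem (he₂ k) _) (CyclicWreath.row_anti p (Nat.le_succ k) hv)
  have hanti : ∀ k, R (k + 1) ≤ R k := fun k u hu => ⟨fun t => gamma_anti (Nat.le_succ k) (hu.1 t), 0,
    by simp, by simp, fun t => by
      rw [eval_zero, ZMod.val_zero, pow_zero]; exact (QuotientGroup.eq_one_iff _).2 (hu.1 t),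
    u.2, hrow (k + 1) u hu, by simp⟩
  have hRa : ∀ k, 1 ≤ k → ∀ u ∈ R k, ⁅u, a⁆ ∈ R (k + 1) := by
    rintro k hk u hu
    have hW : ⁅u.2, CyclicWreath.point p⁆ = 1 :=
      commutatorElement_eq_one_iff_mul_comm.2 (CyclicWreath.commute_point p (hrow k u hu))
    obtain ⟨hu, P, hP, hP0, hPe, v, hv, hu2⟩ := hu
    obtain ⟨c, hc⟩ := hds k hk
    refine ⟨fun t => gamma_commutator (hu t), C c * (Polynomial.X * P), ?_, by simp [mul_coeff_zero], fun t => ?_,
      1, one_mem _, ?_⟩
    · refine natDegree_C_mul_le c _ |>.trans (natDegree_mul_le.trans ?_)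
      rw [natDegree_X]; omega
    · show QuotientGroup.mk' _ ⁅u.1 t, s ^ t.val⁆ = _
      rw [hlin k _ (hu t) _ (hPe t), hright k _ (hdmem k), hc, eval_mul, eval_C, eval_mul, eval_X,
        pw_mul (by simp only [← map_pow, hexp, map_one]), pw_mul (by simp only [← map_pow, hexp, map_one])]
    · show ⁅u.2, CyclicWreath.point p⁆ = _
      have h1 : (C c * (Polynomial.X * P)).coeff 1 = 0 := by
        rw [coeff_C_mul, coeff_X_mul, hP0, mul_zero]
      rw [hW, h1, ZMod.val_zero, pow_zero, mul_one]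
  have hRb : ∀ k, ∀ u ∈ R k, ⁅u, b⁆ ∈ R (k + 1) := by
    rintro k u ⟨hu, P, hP, hP0, hPe, v, hv, hu2⟩
    refine ⟨fun t => gamma_commutator (hu t), P, hP.trans (Nat.le_succ k), hP0, fun t => ?_,
      ⁅v, CyclicWreath.shift p⁆, CyclicWreath.commutator_shift_mem p hv, ?_⟩
    · show QuotientGroup.mk' _ ⁅u.1 t, x⁆ = _
      exact hlin k _ (hu t) _ (hPe t) x
    · show ⁅u.2, CyclicWreath.shift p⁆ = _
      rw [hu2, hWb (pow_mem (CyclicWreath.row_anti p (Nat.zero_le k) (he₂ k)) _)
        (CyclicWreath.row_anti p (Nat.zero_le (k + 1)) hv), hWpow]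
  let A : Set ((ZMod p → X) × CyclicWreath.W p) := {a, b}
  have hAp : ∀ g ∈ A, g ^ p = 1 := by
    rintro g (rfl | rfl)
    · exact Prod.ext (funext fun t => hexp _) (CyclicWreath.point_pow p)
    · exact Prod.ext (funext fun t => hexp _) (CyclicWreath.shift_pow p)
  have hconj : ∀ k, 1 ≤ k → ∀ g ∈ A, ∀ u ∈ R k, g * u * g⁻¹ ∈ R k ∧ g⁻¹ * u * g ∈ R k := by
    intro k hk g hg
    have h1 : ∀ u ∈ R k, g * u * g⁻¹ ∈ R k := fun u hu => by
      rw [UniserialPower.conj_eq_commutator g u]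
      refine mul_mem (inv_mem (hanti k ?_)) hu
      rcases hg with rfl | rfl
      · exact hRa k hk u hu
      · exact hRb k u hu
    exact fun u hu => ⟨h1 u hu, conj_inv_mem (hAp g hg) h1 hu⟩
  have hbase : ⁅Subgroup.closure A, Subgroup.closure A⁆ ≤ R 1 := by
    refine UniserialPower.commutator_closure_le (fun g hg u hu => hconj 1 le_rfl g hg u hu)
      (fun g hg u hu => hconj 1 le_rfl g hg u hu) ?_
    have hab : ⁅a, b⁆ ∈ R 1 := by
      refine ⟨fun t => gamma_commutator (Subgroup.mem_top _), Polynomial.X, natDegree_X_le, coeff_X_zero,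
        fun t => ?_, 1, one_mem _, ?_⟩
      · show QuotientGroup.mk' _ ⁅s ^ t.val, x⁆ = _
        rw [eval_X]
        exact hlin 0 _ (Subgroup.mem_top _) _ (map_pow _ _ _) x
      · show ⁅CyclicWreath.point p, CyclicWreath.shift p⁆ = _
        rw [coeff_X_one, ZMod.val_one, pow_one, mul_one]
        rfl
    rintro g (rfl | rfl) k (rfl | rfl)
    · simp
    · exact hab
    · rw [← commutatorElement_inv]; exact inv_mem hab
    · simp
  have hstep : ∀ k, 1 ≤ k → ⁅R k, Subgroup.closure A⁆ ≤ R (k + 1) := by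
    intro k hk
    rw [Subgroup.commutator_le]
    intro u hu g hg
    have hN : ∀ g ∈ A, ∀ w ∈ R (k + 1), g * w * g⁻¹ ∈ R (k + 1) ∧ g⁻¹ * w * g ∈ R (k + 1) :=
      fun g hg => hconj (k + 1) (by omega) g hg
    have key : Subgroup.closure A ≤
        { carrier := {g | (∀ w ∈ R (k + 1), g * w * g⁻¹ ∈ R (k + 1) ∧ g⁻¹ * w * g ∈ R (k + 1)) ∧
            ∀ u ∈ R k, ⁅u, g⁆ ∈ R (k + 1)}
          one_mem' := ⟨fun w hw => by simpa using hw, fun u _ => by simp⟩
          mul_mem' := fun {g g'} hg hg' => ⟨fun w hw => ⟨by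
            have := (hg.1 _ (hg'.1 w hw).1).1
            simpa [mul_assoc] using this, by
            have := (hg'.1 _ (hg.1 w hw).2).2
            simpa [mul_assoc] using this⟩, fun u hu => by
            rw [show ⁅u, g * g'⁆ = ⁅u, g⁆ * (g * ⁅u, g'⁆ * g⁻¹) by
              simp only [commutatorElement_def]; group]
            exact mul_mem (hg.2 u hu) (hg.1 _ (hg'.2 u hu)).1⟩
          inv_mem' := fun {g} hg => ⟨fun w hw => by
            rw [inv_inv]; exact ⟨(hg.1 w hw).2, (hg.1 w hw).1⟩, fun u hu => by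
            rw [show ⁅u, g⁻¹⁆ = g⁻¹ * ⁅u, g⁆⁻¹ * g by simp only [commutatorElement_def]; group]
            exact (hg.1 _ (inv_mem (hg.2 u hu))).2⟩ } := by
      rw [Subgroup.closure_le]
      rintro g (rfl | rfl)
      · exact ⟨hN _ (Set.mem_insert _ _), hRa k hk⟩
      · exact ⟨hN _ (Set.mem_insert_of_mem _ rfl), hRb k⟩
    exact (key hg).2 u hu
  have hlcs := UniserialPower.lcs_le_of_chain (Subgroup.closure A) R hbase hstep (p - 1) (by omega)
  obtain ⟨-, P, hP, -, hPe, v, hv, hw⟩ := hlcs (UniserialPower.pow_mem_of_generated hAp (g := a * b⁻¹)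
    (mul_mem (Subgroup.subset_closure (Set.mem_insert _ _))
      (inv_mem (Subgroup.subset_closure (Set.mem_insert_of_mem _ rfl)))))
  have hP' : P = 0 := by
    refine eq_zero_of_natDegree_lt_card_of_eval_eq_zero P Function.injective_id (fun t => ?_)
      (by rw [ZMod.card]; omega)
    by_contra hne'
    have h1 := hPe t
    rw [show ((a * b⁻¹) ^ p).1 t = 1 from hexp _, map_one, eq_comm, ← orderOf_dvd_iff_pow_eq_one] at h1
    rw [orderOf_eq_prime (hpd (p - 1)) (fun e => hdnot (p - 1) (by omega) (by omega)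
      ((QuotientGroup.eq_one_iff _).1 e))] at h1
    exact hne' ((ZMod.val_eq_zero _).1 (Nat.eq_zero_of_dvd_of_lt h1 (ZMod.val_lt _)))
  rw [hP', coeff_zero, ZMod.val_zero, pow_zero, one_mul] at hw
  rw [show p - 1 + 1 = p by omega, CyclicWreath.row_prime, Subgroup.mem_bot] at hv
  exact CyclicWreath.pow_ne_one p (hw.trans hv)

end CfsgLib.MaxClassLayers
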