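import Cfsg.Agent.Lib.MaxClassLayers.Exponent
import Cfsg.Agent.Lib.PGroup.TwoMaximalClass

/-!
In a group of maximal class the index in any subgroup of the subgroup generated by its `p`-th powers
is at most `p ^ p`.
-/

set_option autoImplicit false
set_option linter.unusedSectionVars false

open scoped commutatorElement

namespace CfsgLib.MaxClassLayers

open CfsgLib.UniserialPower (Γ gamma_commutator)

variable {p : ℕ} [hp : Fact p.Prime] {X : Type*} [Group X] [Finite X] {n : ℕ}

theorem card_inf_mul (K N : Subgroup X) :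
    Nat.card K = N.relIndex K * Nat.card (K ⊓ N : Subgroup X) := by
  have h1 := Subgroup.relIndex_mul_relIndex ⊥ (N ⊓ K) K bot_le inf_le_right
  rw [Subgroup.relIndex_bot_left, Subgroup.relIndex_bot_left, Subgroup.inf_relIndex_right] at h1
  rw [← h1, inf_comm, mul_comm]

theorem card_lt_mul (h : MC X p n) {A B : Subgroup X} (hlt : A < B) :
    p * Nat.card A ≤ Nat.card B := by
  obtain ⟨a, ha⟩ := IsPGroup.iff_card.mp ((isPGroup h).to_subgroup A)
  obtain ⟨b, hb⟩ := IsPGroup.iff_card.mp ((isPGroup h).to_subgroup B)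
  have h1 : Nat.card A < Nat.card B := lt_of_le_of_ne (Subgroup.card_le_of_le hlt.le)
    fun e => hlt.ne (Subgroup.eq_of_le_of_card_ge hlt.le e.ge)
  rw [ha, hb] at h1
  rw [ha, hb, ← pow_succ']
  exact Nat.pow_le_pow_right hp.out.pos ((Nat.pow_lt_pow_iff_right hp.out.one_lt).1 h1)

/-- The layers met by `K` are met, `p - 1` steps down, by its powers. -/
theorem card_le_layers (h : MC X p n) (hU : HasUniform X n) {K P : Subgroup X}
    (hP : ∀ g ∈ K, g ^ p ∈ P) : ∀ i j, 1 ≤ j → n ≤ i + j →
      Nat.card (K ⊓ Γ X j : Subgroup X) ≤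
        p ^ (p - 1) * Nat.card (P ⊓ Γ X (j + (p - 1)) : Subgroup X) := by
  have hn := h.three_le
  have hp2 := hp.out.two_le
  have hsmall : ∀ j, 1 ≤ j → n ≤ j + p → Nat.card (K ⊓ Γ X j : Subgroup X) ≤
      p ^ (p - 1) * Nat.card (P ⊓ Γ X (j + (p - 1)) : Subgroup X) := by
    intro j hj hjp
    refine le_trans ?_ (Nat.le_mul_of_pos_right _ Nat.card_pos)
    refine (Subgroup.card_le_of_le inf_le_right).trans ?_
    by_cases hjn : j + 1 ≤ n
    · rw [card_gamma h hj hjn]
      exact Nat.pow_le_pow_right hp.out.pos (by omega)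
    · rw [gamma_eq_bot h (by omega), Subgroup.card_bot]
      exact Nat.one_le_pow _ _ hp.out.pos
  intro i
  induction i with
  | zero => exact fun j hj hij => hsmall j hj (by omega)
  | succ i ih =>
    intro j hj hij
    by_cases hjp : n ≤ j + p
    · exact hsmall j hj hjp
    have ih' := ih (j + 1) (by omega) (by omega)
    by_cases hmeet : K ⊓ Γ X j ≤ Γ X (j + 1)
    · refine le_trans ?_ (le_trans ih' (Nat.mul_le_mul_left _ (Subgroup.card_le_of_le
        (inf_le_inf_left P (gamma_anti (by omega))))))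
      exact Subgroup.card_le_of_le (le_inf inf_le_left hmeet)
    obtain ⟨d, ⟨hdK, hd⟩, hd'⟩ := SetLike.not_le_iff_exists.1 hmeet
    have hlt : P ⊓ Γ X (j + 1 + (p - 1)) < P ⊓ Γ X (j + (p - 1)) := by
      refine lt_of_le_not_ge (inf_le_inf_left P (gamma_anti (by omega))) fun hle => ?_
      have h1 := hle ⟨hP d hdK, power_mem h hU hj hd⟩
      exact power_notMem h hU hj hd hd' (by omega) (gamma_anti (by omega) h1.2)
    have hrel : (Γ X (j + 1)).relIndex (K ⊓ Γ X j) ≤ p := by
      have h2 : (Γ X (j + 1)).relIndex (Γ X j) = p := by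
        have h3 := card_inf_mul (Γ X j) (Γ X (j + 1))
        rw [inf_eq_right.2 (gamma_anti (Nat.le_succ j)), card_gamma h hj (by omega),
          card_gamma h (by omega) (by omega), show n - 1 - j = (n - 1 - (j + 1)) + 1 by omega,
          pow_succ'] at h3
        exact (Nat.eq_of_mul_eq_mul_right (pow_pos hp.out.pos _) h3).symm
      refine le_of_le_of_eq (Subgroup.relIndex_le_of_le_right inf_le_right ?_) h2
      rw [h2]; exact hp.out.ne_zero
    calc Nat.card (K ⊓ Γ X j : Subgroup X)
        = (Γ X (j + 1)).relIndex (K ⊓ Γ X j) * Nat.card (K ⊓ Γ X j ⊓ Γ X (j + 1) : Subgroup X) :=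
          card_inf_mul _ _
      _ ≤ p * (p ^ (p - 1) * Nat.card (P ⊓ Γ X (j + 1 + (p - 1)) : Subgroup X)) :=
          Nat.mul_le_mul hrel ((Subgroup.card_le_of_le (inf_le_inf_right _ inf_le_left)).trans ih')
      _ ≤ _ := by
          rw [mul_left_comm]
          exact Nat.mul_le_mul_left _ (card_lt_mul h hlt)

theorem power_index_le (h : MC X p n) (hpn : p < n) (H : Subgroup X) :
    (Subgroup.closure {y : X | ∃ g ∈ H, y = g ^ p}).relIndex H ≤ p ^ p := by
  classical
  have hn := h.three_le
  set P := Subgroup.closure {y : X | ∃ g ∈ H, y = g ^ p} with hPdef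
  have hPH : P ≤ H := (Subgroup.closure_le _).2 (by rintro _ ⟨g, hg, rfl⟩; exact pow_mem hg p)
  have hP : ∀ g ∈ H, g ^ p ∈ P := fun g hg => Subgroup.subset_closure ⟨g, hg, rfl⟩
  suffices Nat.card H ≤ p ^ p * Nat.card P by
    have h1 := card_inf_mul H P
    rw [inf_eq_right.2 hPH] at h1
    rw [h1] at this
    exact Nat.le_of_mul_le_mul_right this Nat.card_pos
  by_cases hp2 : p = 2
  · subst hp2
    obtain ⟨-, C, hC, hCi⟩ := MaxClass.taussky n X hn h.card
      (MaxClass.card_commutator_of_maximal hn h.card h.cls)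
    have h1 : C.relIndex H ≤ 2 := by
      have := Subgroup.relIndex_le_of_le_right (H := C) (le_top : H ≤ ⊤)
        (by rw [Subgroup.relIndex_top_right, hCi]; norm_num)
      rwa [Subgroup.relIndex_top_right, hCi] at this
    haveI := hC
    obtain ⟨c, hc⟩ := Subgroup.isCyclic_iff_exists_zpowers_eq_top (H ⊓ C) |>.1
      (Subgroup.isCyclic_of_le (inf_le_right : H ⊓ C ≤ C))
    have hcH : c ∈ H := (hc.le (Subgroup.mem_zpowers c)).1
    have h3 : Nat.card (Subgroup.zpowers c) ≤ 2 * Nat.card P := by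
      refine le_trans ?_ (Nat.mul_le_mul_left 2 (Subgroup.card_le_of_le
        (Subgroup.zpowers_le.2 (hP c hcH))))
      rw [Nat.card_zpowers, Nat.card_zpowers, orderOf_pow]
      have := Nat.gcd_le_right (orderOf c) (show 0 < 2 by norm_num)
      have hd := Nat.div_add_mod (orderOf c) (Nat.gcd (orderOf c) 2)
      have hm : orderOf c % Nat.gcd (orderOf c) 2 = 0 := Nat.mod_eq_zero_of_dvd (Nat.gcd_dvd_left _ _)
      calc orderOf c = Nat.gcd (orderOf c) 2 * (orderOf c / Nat.gcd (orderOf c) 2) := by omega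
        _ ≤ 2 * _ := Nat.mul_le_mul_right _ this
    calc Nat.card H = C.relIndex H * Nat.card (H ⊓ C : Subgroup X) := card_inf_mul H C
      _ ≤ 2 * (2 * Nat.card P) := Nat.mul_le_mul h1 (by rw [← hc]; exact h3)
      _ = _ := by ring
  have hU := hasUniform hp2 n X h
  have hlev := card_le_layers h hU hP n 1 le_rfl (by omega)
  by_cases hH : H = ⊤
  · subst hH
    rw [top_inf_eq, card_gamma h le_rfl (by omega)] at hlev
    have hlt : P ⊓ Γ X (1 + (p - 1)) < P := by
      refine lt_of_le_not_ge inf_le_left fun hle => ?_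
      have hQ := quotient h (m := p) hp.out.two_le (by omega)
      refine false_of_exponent hp2 hQ fun q => ?_
      obtain ⟨g, rfl⟩ := QuotientGroup.mk'_surjective (Γ X p) q
      rw [← map_pow]
      refine (QuotientGroup.eq_one_iff _).2 ?_
      exact gamma_anti (by have := hp.out.two_le; omega) (hle (hP g (Subgroup.mem_top g))).2
    have h4 := card_lt_mul h hlt
    rw [Subgroup.card_top, h.card, show n = 2 + (n - 1 - 1) by omega, pow_add]
    calc p ^ 2 * p ^ (n - 1 - 1) ≤ p ^ 2 * (p ^ (p - 1) * Nat.card (P ⊓ Γ X (1 + (p - 1)) : Subgroup X)) :=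
          Nat.mul_le_mul_left _ hlev
      _ = p ^ p * (p * Nat.card (P ⊓ Γ X (1 + (p - 1)) : Subgroup X)) := by
          have : p ^ p = p ^ (p - 1) * p := by
            rw [← pow_succ]; congr 1; have := hp.out.two_le; omega
          rw [this]; ring
      _ ≤ _ := Nat.mul_le_mul_left _ h4
  · obtain ⟨M, hM, hHM⟩ := (IsCoatomic.eq_top_or_exists_le_coatom H).resolve_left hH
    obtain ⟨hΓM, -, hidx⟩ := coatom_gamma_one_le h hM
    have h1 : (Γ X 1).relIndex M = p := by
      have h2 := card_inf_mul M (Γ X 1)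
      have h3 := Subgroup.card_mul_index M
      rw [inf_eq_right.2 hΓM, card_gamma h le_rfl (by omega)] at h2
      rw [hidx, h2, h.card] at h3
      have h4 : p ^ n = p * p ^ (n - 1 - 1) * p := by
        rw [← pow_succ', ← pow_succ]; congr 1; omega
      rw [h4] at h3
      exact Nat.eq_of_mul_eq_mul_right (pow_pos hp.out.pos _)
        (Nat.eq_of_mul_eq_mul_right hp.out.pos h3)
    calc Nat.card H = (Γ X 1).relIndex H * Nat.card (H ⊓ Γ X 1 : Subgroup X) := card_inf_mul _ _
      _ ≤ p * (p ^ (p - 1) * Nat.card P) :=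
          Nat.mul_le_mul (le_of_le_of_eq (Subgroup.relIndex_le_of_le_right hHM
            (by rw [h1]; exact hp.out.ne_zero)) h1)
            (hlev.trans (Nat.mul_le_mul_left _ (Subgroup.card_le_of_le inf_le_left)))
      _ = _ := by
          rw [← mul_assoc, ← pow_succ']; congr 2; have := hp.out.two_le; omega

end CfsgLib.MaxClassLayers
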