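import Cfsg.Agent.Lib.MaxClassLayers.Basic

/-!
A uniform element may be made of order `p` by a central product with a cyclic group of order `p ^ 2`:
the group generated by a maximal subgroup and the new element is again of maximal class, has the same
lower central series and satisfies `UniserialPower.Setting`.
-/

set_option autoImplicit false
set_option linter.unusedSectionVars false

open scoped commutatorElement Pointwise

namespace CfsgLib.MaxClassLayers

open CfsgLib.UniserialPower (Γ gamma_commutator)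

universe u

/-- A supplement of a central subgroup has the same lower central series from the second term on. -/
theorem lcs_of_central_supplement {E : Type*} [Group E] {K Z : Subgroup E}
    (hZ : Z ≤ Subgroup.center E) (hKZ : K ⊔ Z = ⊤) :
    ∀ k, 1 ≤ k → K.lowerCentralSeries k = (⊤ : Subgroup E).lowerCentralSeries k := by
  haveI : Z.Normal := ⟨fun z hz g => by
    rw [Subgroup.mem_center_iff.1 (hZ hz) g, mul_inv_cancel_right]; exact hz⟩
  have hsplit : ∀ g : E, ∃ a ∈ K, ∃ z ∈ Z, a * z = g := fun g =>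
    Subgroup.mem_sup_of_normal_right.1 (hKZ ▸ Subgroup.mem_top g)
  have hc : ∀ a : E, ∀ z ∈ Z, ∀ b : E, ⁅a, b * z⁆ = ⁅a, b⁆ ∧ ⁅a * z, b⁆ = ⁅a, b⁆ := by
    intro a z hz b
    have h1 : ∀ g : E, g * z = z * g := fun g => Subgroup.mem_center_iff.1 (hZ hz) g
    constructor
    · rw [show ⁅a, b * z⁆ = ⁅a, b⁆ * (b * ⁅a, z⁆ * b⁻¹) by simp only [commutatorElement_def]; group,
        commutatorElement_eq_one_iff_mul_comm.2 (h1 a)]
      group
    · rw [show ⁅a * z, b⁆ = (a * ⁅z, b⁆ * a⁻¹) * ⁅a, b⁆ by simp only [commutatorElement_def]; group,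
        commutatorElement_eq_one_iff_mul_comm.2 (h1 b).symm]
      group
  intro k hk
  induction k, hk using Nat.le_induction with
  | base =>
    rw [Subgroup.lowerCentralSeries_succ, Subgroup.lowerCentralSeries_zero,
      Subgroup.lowerCentralSeries_succ, Subgroup.lowerCentralSeries_zero]
    refine le_antisymm (Subgroup.commutator_mono le_top le_top) ?_
    rw [Subgroup.commutator_le]
    intro g _ g' _
    obtain ⟨a, ha, z, hz, rfl⟩ := hsplit g
    obtain ⟨b, hb, z', hz', rfl⟩ := hsplit g'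
    rw [(hc a z hz (b * z')).2, (hc a z' hz' b).1]
    exact Subgroup.commutator_mem_commutator ha hb
  | succ k hk ih =>
    rw [Subgroup.lowerCentralSeries_succ, Subgroup.lowerCentralSeries_succ, ih]
    refine le_antisymm (Subgroup.commutator_mono le_rfl le_top) ?_
    rw [Subgroup.commutator_le]
    intro g hg g' _
    obtain ⟨b, hb, z', hz', rfl⟩ := hsplit g'
    rw [(hc g z' hz' b).1]
    exact Subgroup.commutator_mem_commutator hg hb

variable {p : ℕ} [hp : Fact p.Prime] {X : Type u} [Group X] [Finite X] {n : ℕ}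

/-- The twist. -/
theorem exists_twist (h : MC X p n) {M : Subgroup X} (hM : IsCoatom M) {y : X} (hy : Uniform X n y)
    (hyM : y ∉ M) :
    ∃ (E : Type u) (_ : Group E) (_ : Finite E) (ι : X →* E) (X' : Subgroup E) (x : X'),
      Function.Injective ι ∧ M.map ι ≤ X' ∧ UniserialPower.Setting X' p n x ∧
      ∀ k, 1 ≤ k → (Γ X' k).map X'.subtype = (Γ X k).map ι := by
  classical
  have hn := h.three_le
  have hp2 := hp.out.two_le
  obtain ⟨hcent, hyp⟩ := uniform_facts h hy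
  obtain ⟨hΓM, hMn, hMidx⟩ := coatom_gamma_one_le h hM
  haveI := hMn
  have hzc : y ^ p ∈ Subgroup.center X := Subgroup.mem_center_iff.2 fun g =>
    (commutatorElement_eq_one_iff_mul_comm.1
      (Subgroup.mem_bot.1 ((gamma_eq_bot h (show n - 1 ≤ n - 2 + 1 by omega)).le
        (gamma_commutator (k := g) hyp)))).symm
  have hzp : (y ^ p) ^ p = 1 := orderOf_dvd_iff_pow_eq_one.1 ((Subgroup.orderOf_dvd_natCard _ hyp).trans (by
    rw [card_gamma h (by omega) (by omega), show n - 1 - (n - 2) = 1 by omega, pow_one]))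
  let Q := Multiplicative (ZMod (p ^ 2))
  haveI : NeZero (p ^ 2) := ⟨(pow_pos hp.out.pos 2).ne'⟩
  obtain ⟨c, hc⟩ : ∃ c : Q, orderOf c = p ^ 2 :=
    ⟨Multiplicative.ofAdd (1 : ZMod (p ^ 2)), by rw [orderOf_ofAdd_eq_addOrderOf, ZMod.addOrderOf_one]⟩
  let N : Subgroup (X × Q) := Subgroup.zpowers (y ^ p, c ^ p)
  haveI : N.Normal := ⟨fun u hu g => by
    obtain ⟨i, rfl⟩ := Subgroup.mem_zpowers_iff.1 hu
    rw [show g * (y ^ p, c ^ p) ^ i * g⁻¹ = (y ^ p, c ^ p) ^ i from
      Prod.ext (by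
        show g.1 * (y ^ p) ^ i * g.1⁻¹ = (y ^ p) ^ i
        rw [Subgroup.mem_center_iff.1 (zpow_mem hzc i) g.1, mul_inv_cancel_right])
        (by show g.2 * (c ^ p) ^ i * g.2⁻¹ = (c ^ p) ^ i; rw [mul_comm g.2, mul_inv_cancel_right])]
    exact Subgroup.mem_zpowers_iff.2 ⟨i, rfl⟩⟩
  have hNmem : ∀ (g : X) (j : ℕ), j < p → (g, c ^ j) ∈ N → g = 1 ∧ j = 0 := by
    intro g j hj hmem
    obtain ⟨i, hi⟩ := Subgroup.mem_zpowers_iff.1 hmem
    have h1 : (y ^ p) ^ i = g := congrArg Prod.fst hi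
    have h2 : (c ^ p) ^ i = c ^ j := congrArg Prod.snd hi
    have h3 : (orderOf c : ℤ) ∣ (p : ℤ) * i - j := by
      rw [orderOf_dvd_iff_zpow_eq_one, zpow_sub, zpow_mul, zpow_natCast, zpow_natCast, h2, mul_inv_cancel]
    rw [hc, Nat.cast_pow] at h3
    have h4 : (p : ℤ) ∣ (j : ℤ) := by
      have := dvd_sub (dvd_mul_right (p : ℤ) i) ((dvd_pow_self (p : ℤ) (two_ne_zero)).trans h3)
      rwa [sub_sub_cancel] at this
    have hj0 : j = 0 := Nat.eq_zero_of_dvd_of_lt (Int.natCast_dvd_natCast.1 h4) hj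
    refine ⟨?_, hj0⟩
    rw [hj0, Nat.cast_zero, sub_zero, pow_two] at h3
    obtain ⟨t, rfl⟩ := (mul_dvd_mul_iff_left (Int.natCast_ne_zero.2 hp.out.ne_zero)).1 h3
    rw [← h1, zpow_mul, zpow_natCast, hzp, one_zpow]
  let π := QuotientGroup.mk' N
  let ι : X →* (X × Q) ⧸ N := π.comp (MonoidHom.inl X Q)
  have hι : Function.Injective ι := (injective_iff_map_eq_one ι).2 fun g hg =>
    (hNmem g 0 hp.out.pos (by rw [pow_zero]; exact (QuotientGroup.eq_one_iff _).1 hg)).1
  let y' : (X × Q) ⧸ N := π (y, c)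
  have hy' : y' ^ p = 1 := by
    show π (y, c) ^ p = 1
    rw [← map_pow]
    exact (QuotientGroup.eq_one_iff _).2 (Subgroup.mem_zpowers (y ^ p, c ^ p))
  let Z' : Subgroup ((X × Q) ⧸ N) := ((⊥ : Subgroup X).prod (⊤ : Subgroup Q)).map π
  have hZ' : Z' ≤ Subgroup.center _ := by
    rintro _ ⟨⟨a, b⟩, ⟨ha, -⟩, rfl⟩
    refine Subgroup.mem_center_iff.2 fun q => ?_
    obtain ⟨⟨g, d⟩, rfl⟩ := QuotientGroup.mk'_surjective N q
    rw [← map_mul, ← map_mul]
    refine congrArg π (Prod.ext ?_ (mul_comm d b))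
    show g * a = a * g
    rw [show a = 1 from ha, mul_one, one_mul]
  let X' : Subgroup ((X × Q) ⧸ N) := M.map ι ⊔ Subgroup.zpowers y'
  have hMX : M.map ι ≤ X' := le_sup_left
  have hyX : y' ∈ X' := Subgroup.mem_sup_right (Subgroup.mem_zpowers y')
  have hMy : M ⊔ Subgroup.zpowers y = ⊤ :=
    hM.2 _ (lt_of_le_of_ne le_sup_left fun e => hyM (e ▸ Subgroup.mem_sup_right (Subgroup.mem_zpowers y)))
  have hιy : ι y = y' * π (1, c)⁻¹ := by
    show π (y, 1) = π (y, c) * π (1, c)⁻¹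
    rw [← map_mul]
    refine congrArg π (Prod.ext ?_ ?_)
    · show y = y * 1⁻¹
      rw [inv_one, mul_one]
    · exact (mul_inv_cancel c).symm
  have hrange : ι.range ≤ X' ⊔ Z' := by
    rw [MonoidHom.range_eq_map, ← hMy, Subgroup.map_sup, MonoidHom.map_zpowers]
    refine sup_le (hMX.trans le_sup_left) (Subgroup.zpowers_le.2 ?_)
    rw [hιy]
    exact mul_mem (Subgroup.mem_sup_left hyX)
      (Subgroup.mem_sup_right ⟨(1, c)⁻¹, ⟨by simp, Subgroup.mem_top _⟩, rfl⟩)
  have hall : ∀ q, q ∈ ι.range ⊔ Z' := by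
    intro q
    obtain ⟨⟨g, d⟩, rfl⟩ := QuotientGroup.mk'_surjective N q
    rw [show π (g, d) = ι g * π (1, d) by
      show π (g, d) = π (g, 1) * π (1, d)
      rw [← map_mul, Prod.mk_mul_mk, mul_one, one_mul]]
    exact mul_mem (Subgroup.mem_sup_left ⟨g, rfl⟩)
      (Subgroup.mem_sup_right ⟨(1, d), ⟨Subgroup.mem_bot.2 rfl, Subgroup.mem_top _⟩, rfl⟩)
  have hsupp1 : ι.range ⊔ Z' = ⊤ := eq_top_iff.2 fun q _ => hall q
  have hsupp2 : X' ⊔ Z' = ⊤ := eq_top_iff.2 fun q _ => sup_le hrange le_sup_right (hall q)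
  -- the elements of `X'`
  have hnorm : Subgroup.zpowers y' ≤ Subgroup.normalizer ((M.map ι : Subgroup _) : Set _) := by
    refine Subgroup.zpowers_le.2 (Subgroup.mem_normalizer_iff.2 fun u => ?_)
    have hconj : ∀ m : X, y' * ι m * y'⁻¹ = ι (y * m * y⁻¹) := fun m => by
      show π (y, c) * π (m, 1) * (π (y, c))⁻¹ = π (y * m * y⁻¹, 1)
      rw [← map_inv, ← map_mul, ← map_mul]
      exact congrArg π (Prod.ext rfl (by show c * 1 * c⁻¹ = 1; rw [mul_one, mul_inv_cancel]))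
    constructor
    · rintro ⟨m, hm, rfl⟩
      exact ⟨y * m * y⁻¹, hMn.conj_mem m hm y, (hconj m).symm⟩
    · rintro ⟨m, hm, e⟩
      refine ⟨y⁻¹ * m * y, by simpa using hMn.conj_mem m hm y⁻¹, ?_⟩
      have := hconj (y⁻¹ * m * y)
      rw [show y * (y⁻¹ * m * y) * y⁻¹ = m by group, e] at this
      exact mul_left_cancel (mul_right_cancel this)
  have helem : ∀ q ∈ X', ∃ m : M, ∃ i : Fin p, ι m * y' ^ (i : ℕ) = q := by
    intro q hq
    have hq' : q ∈ ((M.map ι : Subgroup ((X × Q) ⧸ N)) : Set ((X × Q) ⧸ N)) *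
        (↑(Subgroup.zpowers y') : Set ((X × Q) ⧸ N)) := by
      rwa [← Subgroup.coe_mul_of_right_le_normalizer_left _ _ hnorm]
    obtain ⟨_, ⟨m, hm, rfl⟩, w, hw, rfl⟩ := Set.mem_mul.1 hq'
    obtain ⟨k, rfl⟩ := Subgroup.mem_zpowers_iff.1 hw
    refine ⟨⟨m, hm⟩, ⟨(k % (p : ℤ)).toNat, by
      have := Int.emod_lt_of_pos k (by exact_mod_cast hp.out.pos : (0 : ℤ) < p)
      have := Int.emod_nonneg k (Int.natCast_ne_zero.2 hp.out.ne_zero)
      omega⟩, ?_⟩
    show ι m * y' ^ (k % (p : ℤ)).toNat = ι m * y' ^ k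
    rw [← zpow_natCast, Int.toNat_of_nonneg (Int.emod_nonneg k (Int.natCast_ne_zero.2 hp.out.ne_zero))]
    congr 1
    rw [Int.emod_def, zpow_sub, zpow_mul, zpow_natCast, hy', one_zpow, inv_one, mul_one]
  have hinj : ∀ m m' : X, ∀ i j : ℕ, i ≤ j → j < p → ι m * y' ^ i = ι m' * y' ^ j →
      m = m' ∧ i = j := by
    intro m m' i j hij hj e
    obtain ⟨d, rfl⟩ := Nat.exists_eq_add_of_le hij
    rw [show i + d = d + i from add_comm _ _, pow_add, ← mul_assoc] at e
    have e' := mul_right_cancel e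
    have hmem : (m⁻¹ * (m' * y ^ d), c ^ d) ∈ N := by
      refine (QuotientGroup.eq_one_iff _).1 ?_
      have h2 : π (m⁻¹ * (m' * y ^ d), c ^ d) = (ι m)⁻¹ * (ι m' * y' ^ d) := by
        show _ = (π (m, 1))⁻¹ * (π (m', 1) * π (y, c) ^ d)
        rw [← map_pow, ← map_mul, ← map_inv, ← map_mul]
        refine congrArg π (Prod.ext rfl ?_)
        show c ^ d = 1⁻¹ * (1 * c ^ d)
        rw [inv_one, one_mul, one_mul]
      show π (m⁻¹ * (m' * y ^ d), c ^ d) = 1
      rw [h2, ← e', inv_mul_cancel]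
    obtain ⟨h1, h2⟩ := hNmem _ d (by omega) hmem
    subst h2
    rw [pow_zero, mul_one, inv_mul_eq_one] at h1
    exact ⟨h1, rfl⟩
  have hcard : Nat.card X' = p ^ n := by
    let f : M × Fin p → X' := fun u => ⟨ι u.1 * y' ^ (u.2 : ℕ),
      mul_mem (hMX ⟨u.1, u.1.2, rfl⟩) (pow_mem hyX _)⟩
    have hf : Function.Bijective f := by
      refine ⟨?_, fun q => ?_⟩
      · rintro ⟨m, i⟩ ⟨m', j⟩ e
        have e' : ι (m : X) * y' ^ (i : ℕ) = ι (m' : X) * y' ^ (j : ℕ) := congrArg Subtype.val e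
        rcases le_total (i : ℕ) j with hij | hij
        · obtain ⟨h1, h2⟩ := hinj _ _ _ _ hij j.isLt e'
          exact Prod.ext (Subtype.ext h1) (Fin.ext h2)
        · obtain ⟨h1, h2⟩ := hinj _ _ _ _ hij i.isLt e'.symm
          exact Prod.ext (Subtype.ext h1.symm) (Fin.ext h2.symm)
      · obtain ⟨m, i, e⟩ := helem q q.2
        exact ⟨⟨m, i⟩, Subtype.ext e⟩
    rw [← Nat.card_congr (Equiv.ofBijective f hf), Nat.card_prod, Nat.card_fin, ← h.card,
      ← Subgroup.card_mul_index M, hMidx]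
  have hlcs : ∀ k, 1 ≤ k → (Γ X' k).map X'.subtype = (Γ X k).map ι := by
    intro k hk
    show ((⊤ : Subgroup X').lowerCentralSeries k).map X'.subtype = _
    rw [Subgroup.top_subtype_lowerCentralSeries, lcs_of_central_supplement hZ' hsupp2 k hk,
      ← lcs_of_central_supplement hZ' hsupp1 k hk, MonoidHom.range_eq_map,
      ← Subgroup.map_lowerCentralSeries]
  refine ⟨_, inferInstance, inferInstance, ι, X', ⟨y', hyX⟩, hι, hMX,
    ⟨hcard, hn, Subtype.ext hy', ?_⟩, hlcs⟩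
  have hint : Nat.card (Subgroup.centralizer ({y} : Set X) ⊓ M : Subgroup X) = p := by
    have hle : Γ X (n - 2) ≤ Subgroup.centralizer ({y} : Set X) ⊓ M := fun u hu =>
      ⟨Subgroup.mem_centralizer_singleton_iff.2 (commutatorElement_eq_one_iff_mul_comm.1
        (Subgroup.mem_bot.1 ((gamma_eq_bot h (show n - 1 ≤ n - 2 + 1 by omega)).le (gamma_commutator hu)))),
        hΓM (gamma_anti (by omega) hu)⟩
    have hlt : Subgroup.centralizer ({y} : Set X) ⊓ M < Subgroup.centralizer ({y} : Set X) :=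
      lt_of_le_of_ne inf_le_left fun e => hyM
        ((e.ge (Subgroup.mem_centralizer_singleton_iff.2 rfl : y ∈ _)).2)
    obtain ⟨a, ha⟩ := IsPGroup.iff_card.mp ((isPGroup h).to_subgroup
      (Subgroup.centralizer ({y} : Set X) ⊓ M))
    have h1 := Subgroup.card_le_of_le hle
    rw [card_gamma h (by omega) (by omega), ha, show n - 1 - (n - 2) = 1 by omega] at h1
    have h2 : p ^ a < p ^ 2 := by
      rw [← hcent, ← ha]
      exact lt_of_le_of_ne (Subgroup.card_le_of_le hlt.le)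
        fun e => hlt.ne (Subgroup.eq_of_le_of_card_ge hlt.le e.ge)
    have := (Nat.pow_le_pow_iff_right hp.out.one_lt).1 h1
    have := (Nat.pow_lt_pow_iff_right hp.out.one_lt).1 h2
    rw [ha, show a = 1 by omega, pow_one]
  let C := Subgroup.centralizer ({(⟨y', hyX⟩ : X')} : Set X')
  have hcy : ∀ m : X, ι m * y' = y' * ι m ↔ m * y = y * m := by
    intro m
    rw [show y' = ι y * π (1, c) by rw [hιy, map_inv, inv_mul_cancel_right]]
    have hcc : ∀ g : X, π (1, c) * ι g = ι g * π (1, c) := fun g => (Subgroup.mem_center_iff.1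
      (hZ' ⟨(1, c), ⟨Subgroup.mem_bot.2 rfl, Subgroup.mem_top _⟩, rfl⟩) (ι g)).symm
    rw [mul_assoc (ι y) _ (ι m), hcc, ← mul_assoc, ← mul_assoc, mul_left_inj, ← map_mul, ← map_mul,
      hι.eq_iff]
  let g : (Subgroup.centralizer ({y} : Set X) ⊓ M : Subgroup X) × Fin p → C := fun u =>
    ⟨⟨ι u.1 * y' ^ (u.2 : ℕ), mul_mem (hMX ⟨u.1, u.1.2.2, rfl⟩) (pow_mem hyX _)⟩,
      Subgroup.mem_centralizer_singleton_iff.2 (Subtype.ext (by
        show ι u.1 * y' ^ (u.2 : ℕ) * y' = y' * (ι u.1 * y' ^ (u.2 : ℕ))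
        rw [mul_assoc, (Commute.pow_self y' _).eq, ← mul_assoc,
          (hcy _).2 (Subgroup.mem_centralizer_singleton_iff.1 u.1.2.1), mul_assoc]))⟩
  have hg : Function.Bijective g := by
    refine ⟨?_, fun q => ?_⟩
    · rintro ⟨m, i⟩ ⟨m', j⟩ e
      have e' : ι (m : X) * y' ^ (i : ℕ) = ι (m' : X) * y' ^ (j : ℕ) :=
        congrArg (fun w : C => ((w : X') : (X × Q) ⧸ N)) e
      rcases le_total (i : ℕ) j with hij | hij
      · obtain ⟨h1, h2⟩ := hinj _ _ _ _ hij j.isLt e'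
        exact Prod.ext (Subtype.ext h1) (Fin.ext h2)
      · obtain ⟨h1, h2⟩ := hinj _ _ _ _ hij i.isLt e'.symm
        exact Prod.ext (Subtype.ext h1.symm) (Fin.ext h2.symm)
    · obtain ⟨m, i, e⟩ := helem (q : X') q.1.2
      have hq : ((q : X') : (X × Q) ⧸ N) * y' = y' * ((q : X') : (X × Q) ⧸ N) :=
        congrArg Subtype.val (Subgroup.mem_centralizer_singleton_iff.1 q.2)
      rw [← e, mul_assoc, (Commute.pow_self y' _).eq, ← mul_assoc, ← mul_assoc] at hq
      exact ⟨⟨⟨m, Subgroup.mem_centralizer_singleton_iff.2 ((hcy _).1 (mul_right_cancel hq)), m.2⟩, i⟩,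
        Subtype.ext (Subtype.ext e)⟩
  rw [← Nat.card_congr (Equiv.ofBijective g hg), Nat.card_prod, Nat.card_fin, hint, pow_two]

end CfsgLib.MaxClassLayers
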